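/-
Frobenius-Blichfeldt: in a finite group of isometries of a complex inner product space the
"near scalar" elements (within distance < 1/2 of some scalar) commute pairwise.
Main results:
* `near_commute` : two near-scalar elements commute.
* `exists_normal_commutative_index_bound` : a finite group with a faithful action by isometries
  on a space of dimension `n` has a normal abelian `A` with `|H : H ∩ A| ≤ 12 ^ n` for all abelian `H`.
* `exists_unitary_model` : every faithful complex representation is equivalent to one by isometries.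
-/
import Cfsg.Agent.EqLemmas

set_option autoImplicit false

namespace Cfsg.Agent.Blichfeldt

open scoped ComplexConjugate InnerProductSpace

variable {G : Type*} [Group G] {E : Type*} [NormedAddCommGroup E] [InnerProductSpace ℂ E]

/-- Within distance `< 1/2` of a scalar. -/
def NearScalar (σ : G →* (E ≃ₗᵢ[ℂ] E)) (x : G) : Prop :=
  ∃ c : ℂ, ∃ r : ℝ, 0 ≤ r ∧ r < 1 / 2 ∧ ∀ v : E, ‖σ x v - c • v‖ ≤ r * ‖v‖

theorem apply_mul (σ : G →* (E ≃ₗᵢ[ℂ] E)) (a b : G) (v : E) : σ (a * b) v = σ a (σ b v) := by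
  rw [map_mul]; rfl

theorem apply_one (σ : G →* (E ≃ₗᵢ[ℂ] E)) (v : E) : σ 1 v = v := by
  rw [map_one]; rfl

theorem commutator_bound (σ : G →* (E ≃ₗᵢ[ℂ] E)) {x y : G} {c d : ℂ} {r s : ℝ} (hr : 0 ≤ r)
    (hx : ∀ v : E, ‖σ x v - c • v‖ ≤ r * ‖v‖) (hy : ∀ v : E, ‖σ y v - d • v‖ ≤ s * ‖v‖)
    (hs : 0 ≤ s) (v : E) : ‖σ (x * y * x⁻¹ * y⁻¹) v - v‖ ≤ 2 * r * s * ‖v‖ := by
  obtain ⟨w, hwdef⟩ : ∃ w : E, w = σ (x⁻¹ * y⁻¹) v := ⟨_, rfl⟩
  have hw : ‖w‖ = ‖v‖ := by rw [hwdef, LinearIsometryEquiv.norm_map]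
  have h1 : σ (x * y * x⁻¹ * y⁻¹) v = σ x (σ y w) := by
    rw [hwdef, ← apply_mul, ← apply_mul]
    congr 2
    group
  have h2 : σ y (σ x w) = v := by
    rw [hwdef, ← apply_mul, ← apply_mul]
    simp [mul_assoc, apply_one]
  obtain ⟨a, hadef⟩ : ∃ a : E, a = σ y w - d • w := ⟨_, rfl⟩
  obtain ⟨b, hbdef⟩ : ∃ b : E, b = σ x w - c • w := ⟨_, rfl⟩
  have e : σ x (σ y w) - σ y (σ x w) = (σ x a - c • a) - (σ y b - d • b) := by
    rw [hadef, hbdef]
    simp only [map_sub, map_smul, smul_sub, smul_smul, mul_comm d c]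
    abel
  rw [h2] at e
  rw [h1, e, ← hw]
  have ha : ‖a‖ ≤ s * ‖w‖ := hadef ▸ hy w
  have hb : ‖b‖ ≤ r * ‖w‖ := hbdef ▸ hx w
  calc ‖(σ x a - c • a) - (σ y b - d • b)‖ ≤ ‖σ x a - c • a‖ + ‖σ y b - d • b‖ := norm_sub_le _ _
    _ ≤ r * ‖a‖ + s * ‖b‖ := add_le_add (hx a) (hy b)
    _ ≤ r * (s * ‖w‖) + s * (r * ‖w‖) :=
        add_le_add (mul_le_mul_of_nonneg_left ha hr) (mul_le_mul_of_nonneg_left hb hs)
    _ = 2 * r * s * ‖w‖ := by ring

theorem nearScalar_conj (σ : G →* (E ≃ₗᵢ[ℂ] E)) {x : G} (h : NearScalar σ x) (g : G) :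
    NearScalar σ (g * x * g⁻¹) := by
  obtain ⟨c, r, hr0, hr, hb⟩ := h
  refine ⟨c, r, hr0, hr, fun v => ?_⟩
  have h1 : v = σ g (σ g⁻¹ v) := by rw [← apply_mul, mul_inv_cancel, apply_one]
  have h2 : σ (g * x * g⁻¹) v - c • v = σ g (σ x (σ g⁻¹ v) - c • σ g⁻¹ v) := by
    rw [map_sub, map_smul, apply_mul, apply_mul, ← h1]
  rw [h2, LinearIsometryEquiv.norm_map]
  calc _ ≤ r * ‖σ g⁻¹ v‖ := hb _
    _ = r * ‖v‖ := by rw [LinearIsometryEquiv.norm_map]

theorem unit_of_eigen (σ : G →* (E ≃ₗᵢ[ℂ] E)) {x : G} {v : E} (hv : v ≠ 0) {l : ℂ}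
    (h : σ x v = l • v) : ‖l‖ = 1 := by
  have h1 := congrArg norm h
  rw [LinearIsometryEquiv.norm_map, norm_smul] at h1
  have h2 : (‖l‖ - 1) * ‖v‖ = 0 := by linarith
  rcases mul_eq_zero.1 h2 with h3 | h3
  · linarith
  · exact absurd (norm_eq_zero.1 h3) hv

theorem eigen_orth (σ : G →* (E ≃ₗᵢ[ℂ] E)) {x : G} {v w : E} (hv : v ≠ 0) {l m : ℂ}
    (hlm : l ≠ m) (h1 : σ x v = l • v) (h2 : σ x w = m • w) : ⟪v, w⟫_ℂ = 0 := by
  by_contra h
  have e := (σ x).inner_map_map v w
  rw [h1, h2, inner_smul_left, inner_smul_right, ← mul_assoc] at e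
  have e2 : conj l * m = 1 := mul_right_cancel₀ h (e.trans (one_mul _).symm)
  have hl : conj l * l = 1 := by
    rw [mul_comm, Complex.mul_conj, Complex.normSq_eq_norm_sq, unit_of_eigen σ hv h1]
    norm_num
  have hc : conj l ≠ 0 := by
    intro hc; rw [hc, zero_mul] at e2; exact zero_ne_one e2
  exact hlm (mul_left_cancel₀ hc (hl.trans e2.symm))

theorem common_eigenvector [FiniteDimensional ℂ E] {ι : Type*} (f : ι → Module.End ℂ E)
    (hf : ∀ i j, Commute (f i) (f j)) (S : Submodule ℂ E) (hS : S ≠ ⊥)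
    (hinv : ∀ i, ∀ v ∈ S, f i v ∈ S) :
    ∃ v ∈ S, v ≠ 0 ∧ ∀ i, ∃ l : ℂ, f i v = l • v := by
  obtain ⟨d, hd⟩ : ∃ d, Module.finrank ℂ S ≤ d := ⟨_, le_refl _⟩
  induction d generalizing S with
  | zero =>
    exfalso; exact hS (Submodule.finrank_eq_zero.1 (Nat.le_zero.1 hd))
  | succ d ih =>
    by_cases hsc : ∀ i, ∃ l : ℂ, ∀ v ∈ S, f i v = l • v
    · obtain ⟨v, hv, hv0⟩ := S.exists_mem_ne_zero_of_ne_bot hS
      exact ⟨v, hv, hv0, fun i => (hsc i).imp fun l hl => hl v hv⟩
    · push Not at hsc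
      obtain ⟨i, hi⟩ := hsc
      haveI : Nontrivial S := Submodule.nontrivial_iff_ne_bot.2 hS
      obtain ⟨l, hl⟩ := Module.End.exists_eigenvalue ((f i).restrict (hinv i))
      obtain ⟨⟨v, hv⟩, hev⟩ := hl.exists_hasEigenvector
      have hev1 : f i v = l • v := congrArg Subtype.val (Module.End.mem_eigenspace_iff.1 hev.1)
      have hv0 : v ≠ 0 := fun h => hev.2 (Subtype.ext h)
      set T : Submodule ℂ E := S ⊓ (Module.End.eigenspace (f i) l) with hT
      have hTlt : T < S := by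
        refine lt_of_le_of_ne inf_le_left fun h => ?_
        obtain ⟨w, hw, hwne⟩ := hi l
        have : w ∈ T := h.symm ▸ hw
        exact hwne (Module.End.mem_eigenspace_iff.1 this.2)
      have hTne : T ≠ ⊥ := fun h => by
        have : v ∈ T := ⟨hv, Module.End.mem_eigenspace_iff.2 hev1⟩
        rw [h, Submodule.mem_bot] at this
        exact hv0 this
      have hfin := Submodule.finrank_lt_finrank_of_lt hTlt
      obtain ⟨u, hu, hu0, hu1⟩ := ih T hTne (fun j w hw => ⟨hinv j w hw.1, by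
        rw [SetLike.mem_coe, Module.End.mem_eigenspace_iff]
        rw [show f i (f j w) = f j (f i w) from LinearMap.congr_fun (hf i j).eq w,
          Module.End.mem_eigenspace_iff.1 hw.2, map_smul]⟩) (by omega)
      exact ⟨u, hu.1, hu0, hu1⟩

/-- The underlying linear map of an element. -/
noncomputable def op (σ : G →* (E ≃ₗᵢ[ℂ] E)) (g : G) : Module.End ℂ E :=
  (σ g).toLinearEquiv.toLinearMap

theorem op_apply (σ : G →* (E ≃ₗᵢ[ℂ] E)) (g : G) (v : E) : op σ g v = σ g v := rfl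

theorem commute_op (σ : G →* (E ≃ₗᵢ[ℂ] E)) {a b : G} (h : Commute a b) :
    Commute (op σ a) (op σ b) := by
  apply LinearMap.ext
  intro v
  show σ a (σ b v) = σ b (σ a v)
  rw [← apply_mul, ← apply_mul, h.eq]

theorem commute_of_commute_conj [Finite G] [FiniteDimensional ℂ E] (σ : G →* (E ≃ₗᵢ[ℂ] E))
    (hσ : Function.Injective σ) {x w : G} (hc : Commute x (w * x * w⁻¹)) (hw : NearScalar σ w) :
    w * x * w⁻¹ = x := by
  by_contra hne
  set x' := w * x * w⁻¹ with hx'
  set u := x * x'⁻¹ with hu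
  have hu1 : u ≠ 1 := fun h => hne (mul_inv_eq_one.1 h).symm
  have hcu : Commute x u := (Commute.refl x).mul_right hc.inv_right
  set S : Submodule ℂ E := LinearMap.range (op σ u - LinearMap.id) with hS
  have hSne : S ≠ ⊥ := by
    intro h
    apply hu1
    apply hσ
    rw [map_one]
    ext v
    have h1 := LinearMap.congr_fun (LinearMap.range_eq_bot.1 h) v
    simpa [op_apply, sub_eq_zero] using h1
  have hinv : ∀ g, Commute g u → ∀ v ∈ S, op σ g v ∈ S := by
    rintro g hg v ⟨z, rfl⟩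
    refine ⟨σ g z, ?_⟩
    simp only [LinearMap.sub_apply, LinearMap.id_apply, op_apply, map_sub]
    rw [← apply_mul, ← apply_mul, hg.eq]
  obtain ⟨v, hvS, hv0, hv⟩ := common_eigenvector (![op σ x, op σ u])
    (fun i j => by
      fin_cases i <;> fin_cases j <;>
        first
          | exact Commute.refl _
          | exact commute_op σ hcu
          | exact commute_op σ hcu.symm) S hSne
    (fun i => by
      fin_cases i
      · exact hinv x hcu
      · exact hinv u (Commute.refl u))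
  obtain ⟨l, hl'⟩ := hv 0
  obtain ⟨nu, hnu'⟩ := hv 1
  have hl : σ x v = l • v := hl'
  have hnu : σ u v = nu • v := hnu'
  have hnu1 : nu ≠ 1 := by
    intro h1
    rw [h1, one_smul] at hnu
    obtain ⟨z, hz⟩ := hvS
    have hz' : σ u z - z = v := hz
    have key : ∀ k : ℕ, σ (u ^ k) z = z + (k : ℂ) • v := by
      intro k
      induction k with
      | zero => simp [apply_one]
      | succ k ih =>
        rw [pow_succ', apply_mul, ih, map_add, map_smul, hnu]
        have h5 : σ u z = z + v := by rw [← hz']; abel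
        rw [h5, Nat.cast_succ, add_smul, one_smul]
        abel
    have h3 := key (orderOf u)
    rw [pow_orderOf_eq_one, apply_one, left_eq_add, smul_eq_zero] at h3
    rcases h3 with h3 | h3
    · exact (orderOf_pos u).ne' (by exact_mod_cast h3)
    · exact hv0 h3
  have hlu : ‖nu‖ = 1 := unit_of_eigen σ hv0 hnu
  have hnu0 : nu ≠ 0 := fun h => by simp [h] at hlu
  have hx'v : σ x' v = (nu⁻¹ * l) • v := by
    have h1 : x' = u⁻¹ * x := by
      have h4 : x' * u = x := by
        have : Commute x' u := hc.symm.mul_right (Commute.refl x').inv_right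
        rw [this.eq, hu, inv_mul_cancel_right]
      rw [eq_inv_mul_iff_mul_eq]
      have : Commute x' u := hc.symm.mul_right (Commute.refl x').inv_right
      rw [← this.eq, h4]
    have h2 : σ u⁻¹ v = nu⁻¹ • v := by
      have h6 : σ u⁻¹ (σ u v) = v := by rw [← apply_mul, inv_mul_cancel, apply_one]
      rw [hnu, map_smul] at h6
      calc σ u⁻¹ v = nu⁻¹ • (nu • σ u⁻¹ v) := by rw [inv_smul_smul₀ hnu0]
        _ = nu⁻¹ • v := by rw [h6]
    rw [h1, apply_mul, hl, map_smul, h2, smul_smul, mul_comm]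
  have hne' : nu⁻¹ * l ≠ l := by
    intro h
    have hl1 := unit_of_eigen σ hv0 hl
    have hl0 : l ≠ 0 := fun hh => by simp [hh] at hl1
    exact hnu1 (inv_eq_one.1 (mul_right_cancel₀ hl0 (h.trans (one_mul l).symm)))
  set v' := σ w⁻¹ v with hv'
  have hv'0 : v' ≠ 0 := by
    rw [hv']; intro h
    exact hv0 ((σ w⁻¹).map_eq_zero_iff.1 h)
  have hxv' : σ x v' = (nu⁻¹ * l) • v' := by
    rw [hv', ← map_smul, ← hx'v, ← apply_mul, ← apply_mul]
    congr 2
    rw [hx']; group
  have horth : ⟪v', v⟫_ℂ = 0 := eigen_orth σ hv'0 hne' hxv' hl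
  obtain ⟨c, r, hr0, hr, hb⟩ := hw
  have h1 := hb v'
  have h2 : σ w v' = v := by rw [hv', ← apply_mul, mul_inv_cancel, apply_one]
  rw [h2] at h1
  have h3 : ‖v‖ ≤ ‖v - c • v'‖ := by
    have h4 : ⟪v, -(c • v')⟫_ℂ = 0 := by
      rw [inner_neg_right, inner_smul_right, inner_eq_zero_symm.1 horth]; simp
    have h5 := norm_add_sq_eq_norm_sq_add_norm_sq_of_inner_eq_zero v (-(c • v')) h4
    rw [← sub_eq_add_neg] at h5
    nlinarith [norm_nonneg v, norm_nonneg (v - c • v'), norm_nonneg (-(c • v'))]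
  have h6 : ‖v'‖ = ‖v‖ := by rw [hv', LinearIsometryEquiv.norm_map]
  have h7 : 0 < ‖v‖ := norm_pos_iff.2 hv0
  rw [h6] at h1
  nlinarith

theorem near_commute [Finite G] [FiniteDimensional ℂ E] (σ : G →* (E ≃ₗᵢ[ℂ] E))
    (hσ : Function.Injective σ) {x y : G} (hx : NearScalar σ x) (hy : NearScalar σ y) :
    Commute x y := by
  obtain ⟨c, r, hr0, hr, hxb⟩ := hx
  set z : ℕ → G := fun k => (fun t => x * t * x⁻¹ * t⁻¹)^[k] y with hz
  have hz1 : ∀ k, z (k + 1) = x * z k * x⁻¹ * (z k)⁻¹ := fun k =>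
    Function.iterate_succ_apply' _ _ _
  have hq0 : 0 ≤ 2 * r := by linarith
  have hq1 : 2 * r < 1 := by linarith
  obtain ⟨d, s, hs0, hs, hyb⟩ := hy
  have hbound : ∀ k, ∀ v : E, ‖σ (z (k + 1)) v - v‖ ≤ (2 * r) ^ (k + 1) * s * ‖v‖ := by
    intro k
    induction k with
    | zero =>
      intro v
      rw [hz1 0]
      calc _ ≤ 2 * r * s * ‖v‖ := commutator_bound σ hr0 hxb hyb hs0 v
        _ = _ := by ring
    | succ k ih =>
      intro v
      rw [hz1 (k + 1)]
      calc _ ≤ 2 * r * ((2 * r) ^ (k + 1) * s) * ‖v‖ :=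
            commutator_bound σ (d := 1) hr0 hxb (fun v => by rw [one_smul]; exact ih v)
              (mul_nonneg (pow_nonneg hq0 _) hs0) v
        _ = _ := by ring
  have hnear : ∀ k, NearScalar σ (z k) := by
    intro k
    cases k with
    | zero => exact ⟨d, s, hs0, hs, hyb⟩
    | succ k =>
      refine ⟨1, s, hs0, hs, fun v => ?_⟩
      rw [one_smul]
      refine (hbound k v).trans ?_
      exact mul_le_mul_of_nonneg_right
        (mul_le_of_le_one_left hs0 (pow_le_one₀ hq0 hq1.le)) (norm_nonneg v)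
  -- some term of the sequence is trivial
  have hex : ∃ k, z (k + 1) = 1 := by
    obtain ⟨a, b, hne, hab⟩ := Finite.exists_ne_map_eq_of_infinite (fun k => z (k + 1))
    wlog hlt : a < b generalizing a b
    · exact this b a hne.symm hab.symm (by omega)
    refine ⟨a, hσ ?_⟩
    rw [map_one]
    ext v
    have hper : ∀ m, z (a + 1 + m * (b - a)) = z (a + 1) := by
      intro m
      induction m with
      | zero => simp
      | succ m ih =>
        have e1 : a + 1 + (m + 1) * (b - a) = (b - a) + (a + 1 + m * (b - a)) := by ring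
        have e2 : b + 1 = (b - a) + (a + 1) := by omega
        rw [e1]
        calc z ((b - a) + (a + 1 + m * (b - a)))
            = (fun t => x * t * x⁻¹ * t⁻¹)^[b - a] (z (a + 1 + m * (b - a))) :=
              Function.iterate_add_apply _ _ _ _
          _ = (fun t => x * t * x⁻¹ * t⁻¹)^[b - a] (z (a + 1)) := by rw [ih]
          _ = z (b + 1) := by rw [e2]; exact (Function.iterate_add_apply _ _ _ _).symm
          _ = z (a + 1) := hab.symm
    have hle : ∀ m, ‖σ (z (a + 1)) v - v‖ ≤ (2 * r) ^ m * (s * ‖v‖) := by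
      intro m
      have h2 := hbound (a + m * (b - a)) v
      rw [show a + m * (b - a) + 1 = a + 1 + m * (b - a) by ring, hper m, mul_assoc] at h2
      refine h2.trans (mul_le_mul_of_nonneg_right (pow_le_pow_of_le_one hq0 hq1.le ?_)
        (mul_nonneg hs0 (norm_nonneg v)))
      have : m ≤ m * (b - a) := Nat.le_mul_of_pos_right m (by omega)
      omega
    have hlim : Filter.Tendsto (fun m => (2 * r) ^ m * (s * ‖v‖)) Filter.atTop (nhds 0) := by
      simpa using (tendsto_pow_atTop_nhds_zero_of_lt_one hq0 hq1).mul_const (s * ‖v‖)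
    have := ge_of_tendsto' hlim hle
    exact sub_eq_zero.1 (norm_le_zero_iff.1 this)
  obtain ⟨k, hk⟩ := hex
  have hdown : ∀ k, z (k + 1) = 1 → z 1 = 1 := by
    intro k
    induction k with
    | zero => exact id
    | succ k ih =>
      intro h
      apply ih
      rw [hz1 (k + 1)] at h
      have hc : Commute x (z (k + 1)) := commutatorElement_eq_one_iff_commute.1 h
      rw [hz1 k] at hc ⊢
      have hc' : Commute x (z k * x * (z k)⁻¹) := by
        have h8 : z k * x⁻¹ * (z k)⁻¹ = x⁻¹ * (x * z k * x⁻¹ * (z k)⁻¹) := by group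
        have h9 : z k * x * (z k)⁻¹ = (z k * x⁻¹ * (z k)⁻¹)⁻¹ := by group
        rw [h9, h8]
        exact ((Commute.refl x).inv_right.mul_right hc).inv_right
      have h10 := commute_of_commute_conj σ hσ hc' (hnear k)
      calc x * z k * x⁻¹ * (z k)⁻¹ = x * (z k * x * (z k)⁻¹)⁻¹ := by group
        _ = 1 := by rw [h10, mul_inv_cancel]
  have h1 := hdown k hk
  rw [hz1 0] at h1
  exact commutatorElement_eq_one_iff_commute.1 h1

/-- Characters describing a commuting family: at most `finrank` of them control its norms. -/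
theorem exists_eigen_functions [FiniteDimensional ℂ E] (σ : G →* (E ≃ₗᵢ[ℂ] E)) (H : Subgroup G)
    (hH : ∀ a ∈ H, ∀ b ∈ H, a * b = b * a) (S : Submodule ℂ E)
    (hS : ∀ h ∈ H, ∀ v ∈ S, σ h v ∈ S) :
    ∃ (k : ℕ) (L : Fin k → G → ℂ), k ≤ Module.finrank ℂ S ∧
      (∀ i, ∀ a ∈ H, ∀ b ∈ H, L i (a * b) = L i a * L i b) ∧
      (∀ i, ∀ a ∈ H, ‖L i a‖ = 1) ∧
      (∀ i, ∃ v : E, v ≠ 0 ∧ ∀ a ∈ H, σ a v = L i a • v) ∧
      ∀ h ∈ H, ∀ (c : ℂ) (r : ℝ), 0 ≤ r → (∀ i, ‖L i h - c‖ ≤ r) →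
        ∀ v ∈ S, ‖σ h v - c • v‖ ≤ r * ‖v‖ := by
  obtain ⟨d, hd⟩ : ∃ d, Module.finrank ℂ S ≤ d := ⟨_, le_refl _⟩
  induction d generalizing S with
  | zero =>
    refine ⟨0, Fin.elim0, Nat.zero_le _, fun i => i.elim0, fun i => i.elim0, fun i => i.elim0, ?_⟩
    intro h _ c r _ _ v hv
    rw [Submodule.finrank_eq_zero.1 (Nat.le_zero.1 hd), Submodule.mem_bot] at hv
    simp [hv]
  | succ d ih =>
    by_cases hS0 : S = ⊥
    · refine ⟨0, Fin.elim0, Nat.zero_le _, fun i => i.elim0, fun i => i.elim0, fun i => i.elim0, ?_⟩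
      intro h _ c r _ _ v hv
      rw [hS0, Submodule.mem_bot] at hv
      simp [hv]
    obtain ⟨e, he, he0, hev⟩ := common_eigenvector (fun h : H => op σ (h : G))
      (fun a b => commute_op σ (hH a a.2 b b.2)) S hS0 (fun h => hS h h.2)
    choose l hl using hev
    classical
    set L0 : G → ℂ := fun g => if hg : g ∈ H then l ⟨g, hg⟩ else 0 with hL0
    have hL0' : ∀ g ∈ H, σ g e = L0 g • e := fun g hg => by
      rw [hL0]; simp only [dif_pos hg]; exact hl ⟨g, hg⟩
    set S' : Submodule ℂ E := S ⊓ (ℂ ∙ e)ᗮ with hS'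
    have hmem : ∀ v, v ∈ S' ↔ v ∈ S ∧ ⟪e, v⟫_ℂ = 0 := fun v => by
      rw [hS', Submodule.mem_inf, Submodule.mem_orthogonal_singleton_iff_inner_right]
    have hlt : S' < S := by
      refine lt_of_le_of_ne inf_le_left fun h => ?_
      have : e ∈ S' := h.symm ▸ he
      exact he0 (inner_self_eq_zero.1 ((hmem e).1 this).2)
    have hinv : ∀ h ∈ H, ∀ v ∈ S', σ h v ∈ S' := by
      intro h hh v hv
      rw [hmem] at hv ⊢
      refine ⟨hS h hh v hv.1, ?_⟩
      have h1 := (σ h).inner_map_map e v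
      rw [hv.2, hL0' h hh, inner_smul_left] at h1
      rcases mul_eq_zero.1 h1 with h2 | h2
      · exfalso
        have := unit_of_eigen σ he0 (hL0' h hh)
        rw [← RCLike.norm_conj, h2] at this
        simp at this
      · exact h2
    have hfin := Submodule.finrank_lt_finrank_of_lt hlt
    obtain ⟨k, L, hk, hmul, hnorm, hvec, hL⟩ := ih S' hinv (by omega)
    refine ⟨k + 1, Fin.cons L0 L, by omega, ?_, ?_, ?_, ?_⟩
    · intro i
      refine Fin.cases ?_ (fun j => by simpa using hmul j) i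
      intro a ha b hb
      simp only [Fin.cons_zero]
      apply smul_left_injective ℂ he0
      show L0 (a * b) • e = (L0 a * L0 b) • e
      rw [← hL0' _ (H.mul_mem ha hb), apply_mul, hL0' b hb, map_smul, hL0' a ha, smul_smul,
        mul_comm]
    · intro i
      refine Fin.cases ?_ (fun j => by simpa using hnorm j) i
      intro a ha
      simp only [Fin.cons_zero]
      exact unit_of_eigen σ he0 (hL0' a ha)
    · intro i
      refine Fin.cases ?_ (fun j => by simpa using hvec j) i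
      exact ⟨e, he0, fun a ha => by simpa using hL0' a ha⟩
    · intro h hh c r hr hb v hv
      obtain ⟨t, htdef⟩ : ∃ t : ℂ, t = ⟪e, v⟫_ℂ / ⟪e, e⟫_ℂ := ⟨_, rfl⟩
      obtain ⟨w, hwdef⟩ : ∃ w : E, w = v - t • e := ⟨_, rfl⟩
      have hwe : ⟪e, w⟫_ℂ = 0 := by
        rw [hwdef, inner_sub_right, inner_smul_right, htdef,
          div_mul_cancel₀ _ (fun h0 => he0 (inner_self_eq_zero.1 h0)), sub_self]
      have hw : w ∈ S' := (hmem w).2 ⟨hwdef ▸ S.sub_mem hv (S.smul_mem t he), hwe⟩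
      have hv' : v = t • e + w := by rw [hwdef]; abel
      have hdec : σ h v - c • v = (t * (L0 h - c)) • e + (σ h w - c • w) := by
        rw [hv', map_add, map_smul, hL0' h hh]
        module
      have horth : ∀ a : ℂ, ∀ z, ⟪e, z⟫_ℂ = 0 → ⟪a • e, z⟫_ℂ = 0 := fun a z hz => by
        rw [inner_smul_left, hz, mul_zero]
      have hz : ⟪e, σ h w - c • w⟫_ℂ = 0 := by
        rw [inner_sub_right, inner_smul_right, hwe, ((hmem _).1 (hinv h hh w hw)).2]; simp
      have e1 := norm_add_sq_eq_norm_sq_add_norm_sq_of_inner_eq_zero _ _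
        (horth (t * (L0 h - c)) _ hz)
      have e2 := norm_add_sq_eq_norm_sq_add_norm_sq_of_inner_eq_zero _ _ (horth t _ hwe)
      rw [← hdec] at e1
      rw [← hv'] at e2
      have h1 : ‖(t * (L0 h - c)) • e‖ ≤ r * ‖t • e‖ := by
        rw [norm_smul, norm_smul, norm_mul]
        have hb0 := hb 0
        simp only [Fin.cons_zero] at hb0
        have := mul_le_mul_of_nonneg_left hb0 (mul_nonneg (norm_nonneg t) (norm_nonneg e))
        linarith
      have h2 : ‖σ h w - c • w‖ ≤ r * ‖w‖ :=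
        hL h hh c r hr (fun i => by simpa using hb i.succ) w hw
      have h3 := mul_self_le_mul_self (norm_nonneg _) h1
      have h4 := mul_self_le_mul_self (norm_nonneg _) h2
      refine nonneg_le_nonneg_of_sq_le_sq (mul_nonneg hr (norm_nonneg v)) ?_
      have h5 : r * ‖v‖ * (r * ‖v‖) = r * r * (‖v‖ * ‖v‖) := by ring
      rw [h5, e1, e2]
      linarith

/-- The index of the arc of length `π / 6` containing `z`. -/
noncomputable def sector (z : ℂ) : Fin 12 :=
  ⟨(⌊(Complex.arg z + Real.pi) / (Real.pi / 6)⌋ % 12).toNat, by omega⟩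

theorem cos_gt_of_sector {a b : ℝ} (m : ℤ)
    (h1 : |a - b - (2 * Real.pi) * m| < Real.pi / 6) :
    Real.sqrt 3 / 2 < Real.cos (a - b) := by
  have h2 : Real.cos (a - b) = Real.cos |a - b - (2 * Real.pi) * m| := by
    rw [Real.cos_abs, show a - b - 2 * Real.pi * m = a - b - m * (2 * Real.pi) by ring,
      Real.cos_sub_int_mul_two_pi]
  rw [h2, ← Real.cos_pi_div_six]
  exact Real.cos_lt_cos_of_nonneg_of_le_pi (abs_nonneg _) (by linarith [Real.pi_pos]) h1

theorem re_conj_mul_gt {a b : ℂ} (ha : ‖a‖ = 1) (hb : ‖b‖ = 1) (h : sector a = sector b) :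
    Real.sqrt 3 / 2 < (conj a * b).re := by
  have hA : a = Complex.exp (a.arg * Complex.I) := by
    have := Complex.norm_mul_exp_arg_mul_I a
    rw [ha] at this; simpa using this.symm
  have hB : b = Complex.exp (b.arg * Complex.I) := by
    have := Complex.norm_mul_exp_arg_mul_I b
    rw [hb] at this; simpa using this.symm
  have hre : (conj a * b).re = Real.cos (b.arg - a.arg) := by
    rw [Real.cos_sub, Complex.mul_re, Complex.conj_re, Complex.conj_im]
    conv_lhs => rw [hA, hB]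
    rw [Complex.exp_ofReal_mul_I_re, Complex.exp_ofReal_mul_I_re, Complex.exp_ofReal_mul_I_im,
      Complex.exp_ofReal_mul_I_im]
    ring
  rw [hre]
  obtain ⟨ka, hka⟩ : ∃ k, k = ⌊(Complex.arg a + Real.pi) / (Real.pi / 6)⌋ := ⟨_, rfl⟩
  obtain ⟨kb, hkb⟩ : ∃ k, k = ⌊(Complex.arg b + Real.pi) / (Real.pi / 6)⌋ := ⟨_, rfl⟩
  have h' : (ka % 12).toNat = (kb % 12).toNat := by
    rw [hka, hkb]; exact congrArg Fin.val h
  obtain ⟨m, hm⟩ : ∃ m : ℤ, kb - ka = 12 * m := ⟨(kb - ka) / 12, by omega⟩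
  refine cos_gt_of_sector m ?_
  have hp : (0 : ℝ) < Real.pi / 6 := by positivity
  have a1 := Int.floor_le ((Complex.arg a + Real.pi) / (Real.pi / 6))
  have a2 := Int.lt_floor_add_one ((Complex.arg a + Real.pi) / (Real.pi / 6))
  have b1 := Int.floor_le ((Complex.arg b + Real.pi) / (Real.pi / 6))
  have b2 := Int.lt_floor_add_one ((Complex.arg b + Real.pi) / (Real.pi / 6))
  rw [← hka] at a1 a2
  rw [← hkb] at b1 b2
  rw [le_div_iff₀ hp] at a1 b1
  rw [div_lt_iff₀ hp] at a2 b2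
  have hm' : (kb : ℝ) - ka = 12 * m := by exact_mod_cast hm
  have hm2 : ((kb : ℝ) - ka) * (Real.pi / 6) = 2 * Real.pi * m := by rw [hm']; ring
  rw [abs_lt]
  constructor <;> linarith

theorem norm_sub_center_lt {z : ℂ} (hz : ‖z‖ = 1) (h : Real.sqrt 3 / 2 < z.re) :
    ‖z - ((Real.sqrt 3 / 2 : ℝ) : ℂ)‖ < 1 / 2 := by
  have h1 : ‖z - ((Real.sqrt 3 / 2 : ℝ) : ℂ)‖ ^ 2
      = ‖z‖ ^ 2 - Real.sqrt 3 * z.re + 3 / 4 := by
    rw [← Complex.normSq_eq_norm_sq, ← Complex.normSq_eq_norm_sq, Complex.normSq_apply,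
      Complex.normSq_apply, Complex.sub_re, Complex.sub_im, Complex.ofReal_re, Complex.ofReal_im]
    nlinarith [Real.mul_self_sqrt (show (0 : ℝ) ≤ 3 by norm_num)]
  rw [hz] at h1
  have h2 : 0 < Real.sqrt 3 := Real.sqrt_pos.2 (by norm_num)
  nlinarith [norm_nonneg (z - ((Real.sqrt 3 / 2 : ℝ) : ℂ)),
    Real.mul_self_sqrt (show (0 : ℝ) ≤ 3 by norm_num), mul_lt_mul_of_pos_left h h2]

theorem exists_normal_commutative_index_bound [Finite G] [FiniteDimensional ℂ E]
    (σ : G →* (E ≃ₗᵢ[ℂ] E)) (hσ : Function.Injective σ) :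
    ∃ A : Subgroup G, A.Normal ∧ (∀ x ∈ A, ∀ y ∈ A, x * y = y * x) ∧
      ∀ H : Subgroup G, (∀ x ∈ H, ∀ y ∈ H, x * y = y * x) →
        (A.subgroupOf H).index ≤ 12 ^ Module.finrank ℂ E := by
  obtain ⟨N, hN⟩ : ∃ N : Set G, N = {x | NearScalar σ x} := ⟨_, rfl⟩
  refine ⟨Subgroup.closure N, ?_, ?_, ?_⟩
  · constructor
    intro x hx g
    induction hx using Subgroup.closure_induction with
    | mem y hy =>
      apply Subgroup.subset_closure
      subst hN
      exact nearScalar_conj σ hy g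
    | one => simp
    | mul a b _ _ iha ihb =>
      rw [show g * (a * b) * g⁻¹ = (g * a * g⁻¹) * (g * b * g⁻¹) by group]
      exact Subgroup.mul_mem _ iha ihb
    | inv a _ iha =>
      rw [show g * a⁻¹ * g⁻¹ = (g * a * g⁻¹)⁻¹ by group]
      exact Subgroup.inv_mem _ iha
  · have hcomm : ∀ a ∈ N, ∀ b ∈ N, a * b = b * a := fun a ha b hb => by
      subst hN; exact (near_commute σ hσ ha hb).eq
    have h := Subgroup.isMulCommutative_closure hcomm
    intro x hx y hy
    exact congrArg Subtype.val (h.is_comm.comm ⟨x, hx⟩ ⟨y, hy⟩)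
  · intro H hH
    obtain ⟨k, L, hk, hmul, hnorm, -, hL⟩ :=
      exists_eigen_functions σ H hH ⊤ (fun _ _ _ _ => Submodule.mem_top)
    rw [finrank_top] at hk
    have hinj : Function.Injective
        (fun q : H ⧸ (Subgroup.closure N).subgroupOf H => fun i => sector (L i (q.out : G))) := by
      intro p q hpq
      rw [← Quotient.out_eq' p, ← Quotient.out_eq' q]
      refine QuotientGroup.eq.2 ?_
      rw [Subgroup.mem_subgroupOf]
      push_cast
      apply Subgroup.subset_closure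
      subst hN
      have ha : (p.out : G) ∈ H := p.out.2
      have hb : (q.out : G) ∈ H := q.out.2
      have hab : ((p.out : G))⁻¹ * (q.out : G) ∈ H := H.mul_mem (H.inv_mem ha) hb
      have hval : ∀ i, ‖L i ((p.out : G)⁻¹ * (q.out : G)) - ((Real.sqrt 3 / 2 : ℝ) : ℂ)‖ < 1 / 2 := by
        intro i
        apply norm_sub_center_lt (hnorm i _ hab)
        have hinv : L i ((p.out : G)⁻¹) = conj (L i (p.out : G)) := by
          have h0 : L i 1 = 1 := by
            have h2 := hmul i 1 H.one_mem 1 H.one_mem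
            rw [one_mul] at h2
            have h3 : L i 1 ≠ 0 := fun h => by simpa [h] using hnorm i 1 H.one_mem
            exact (mul_eq_left₀ h3).1 h2.symm
          have h4 := hmul i _ (H.inv_mem ha) _ ha
          rw [inv_mul_cancel, h0] at h4
          rw [← Complex.inv_eq_conj (hnorm i _ ha)]
          exact eq_inv_of_mul_eq_one_left h4.symm
        rw [hmul i _ (H.inv_mem ha) _ hb, hinv]
        exact re_conj_mul_gt (hnorm i _ ha) (hnorm i _ hb) (congrFun hpq i)
      rcases k with _ | k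
      · exact ⟨0, 0, le_rfl, by norm_num,
          fun v => hL _ hab 0 0 le_rfl (fun i => i.elim0) v Submodule.mem_top⟩
      · obtain ⟨i, hi⟩ := Finite.exists_max
          fun i => ‖L i ((p.out : G)⁻¹ * (q.out : G)) - ((Real.sqrt 3 / 2 : ℝ) : ℂ)‖
        exact ⟨_, _, norm_nonneg _, hval i,
          fun v => hL _ hab _ _ (norm_nonneg _) hi v Submodule.mem_top⟩
    have h1 : Nat.card (H ⧸ (Subgroup.closure N).subgroupOf H) ≤ Nat.card (Fin k → Fin 12) :=
      Nat.card_le_card_of_injective _ hinj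
    rw [Subgroup.index_eq_card]
    refine h1.trans ?_
    rw [Nat.card_fun, Nat.card_fin, Nat.card_fin]
    exact Nat.pow_le_pow_right (by norm_num) hk

/-- A representation preserving the pulled-back norm acts by isometries on the image. -/
theorem exists_isometry_action {V F : Type*} [AddCommGroup V] [Module ℂ V]
    [NormedAddCommGroup F] [InnerProductSpace ℂ F] (Φ : V →ₗ[ℂ] F) (hΦ : Function.Injective Φ)
    (ρ : Representation ℂ G V) (hρ : Function.Injective ρ) (hnorm : ∀ g v, ‖Φ (ρ g v)‖ = ‖Φ v‖) :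
    ∃ (σ : G →* (LinearMap.range Φ ≃ₗᵢ[ℂ] LinearMap.range Φ)) (e : V ≃ₗ[ℂ] LinearMap.range Φ),
      Function.Injective σ ∧ ∀ g v, σ g (e v) = e (ρ g v) := by
  obtain ⟨e, he⟩ : ∃ e : V ≃ₗ[ℂ] LinearMap.range Φ, ∀ v, (e v : F) = Φ v :=
    ⟨LinearEquiv.ofInjective Φ hΦ, fun v => rfl⟩
  let ρe : G → (V ≃ₗ[ℂ] V) := fun g =>
    LinearEquiv.ofLinear (ρ g) (ρ g⁻¹)
      (by rw [← Module.End.mul_eq_comp, ← map_mul, mul_inv_cancel, map_one]; rfl)
      (by rw [← Module.End.mul_eq_comp, ← map_mul, inv_mul_cancel, map_one]; rfl)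
  let τ : G → (LinearMap.range Φ ≃ₗᵢ[ℂ] LinearMap.range Φ) := fun g =>
    { toLinearEquiv := (e.symm.trans (ρe g)).trans e
      norm_map' := fun w => by
        show ‖((e (ρ g (e.symm w)) : LinearMap.range Φ) : F)‖ = ‖(w : F)‖
        rw [he, hnorm, ← he, e.apply_symm_apply] }
  have hτ : ∀ g w, τ g w = e (ρ g (e.symm w)) := fun g w => rfl
  let σ : G →* (LinearMap.range Φ ≃ₗᵢ[ℂ] LinearMap.range Φ) :=
    { toFun := τ
      map_one' := by
        refine LinearIsometryEquiv.ext fun w => ?_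
        rw [hτ, map_one, Module.End.one_apply, e.apply_symm_apply]
        rfl
      map_mul' := fun a b => by
        refine LinearIsometryEquiv.ext fun w => ?_
        show τ (a * b) w = τ a (τ b w)
        rw [hτ, hτ, hτ, e.symm_apply_apply, map_mul, Module.End.mul_apply] }
  have hconj : ∀ g v, σ g (e v) = e (ρ g v) := fun g v => by
    show τ g (e v) = e (ρ g v)
    rw [hτ, e.symm_apply_apply]
  refine ⟨σ, e, fun a b hab => hρ ?_, hconj⟩
  apply LinearMap.ext
  intro v
  apply e.injective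
  rw [← hconj, ← hconj, hab]

/-- A faithful complex representation is equivalent to a faithful action by isometries. -/
theorem exists_unitary_model [Fintype G] (n : ℕ) (ρ : Representation ℂ G (Fin n → ℂ))
    (hρ : Function.Injective ρ) :
    ∃ (W : Submodule ℂ (EuclideanSpace ℂ (G × Fin n))) (σ : G →* (W ≃ₗᵢ[ℂ] W))
      (e : (Fin n → ℂ) ≃ₗ[ℂ] W),
      Function.Injective σ ∧ ∀ g v, σ g (e v) = e (ρ g v) := by
  classical
  obtain ⟨Φ, hΦ⟩ : ∃ Φ : (Fin n → ℂ) →ₗ[ℂ] EuclideanSpace ℂ (G × Fin n),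
      ∀ v p, Φ v p = ρ p.1 v p.2 :=
    ⟨{ toFun := fun v => WithLp.toLp 2 fun p : G × Fin n => ρ p.1 v p.2
       map_add' := fun v w => by ext p; simp
       map_smul' := fun c v => by ext p; simp }, fun v p => rfl⟩
  have hinj : Function.Injective Φ := by
    intro v w h
    funext i
    have h1 := hΦ v (1, i)
    rw [h, hΦ] at h1
    simpa using h1.symm
  have hnorm : ∀ g v, ‖Φ (ρ g v)‖ = ‖Φ v‖ := by
    intro g v
    rw [EuclideanSpace.norm_eq, EuclideanSpace.norm_eq]
    congr 1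
    rw [← Equiv.sum_comp ((Equiv.mulRight g).prodCongr (Equiv.refl (Fin n)))
      (fun p : G × Fin n => ‖Φ v p‖ ^ 2)]
    refine Finset.sum_congr rfl fun p _ => ?_
    simp [hΦ]
  obtain ⟨σ, e, hσ, hconj⟩ := exists_isometry_action Φ hinj ρ hρ hnorm
  exact ⟨LinearMap.range Φ, σ, e, hσ, hconj⟩

/-- The character formulation of `exists_normal_commutative_index_bound`. -/
theorem exists_normal_commutative_index_bound_of_character [Finite G] (n : ℕ)
    (ρ : Representation ℂ G (Fin n → ℂ)) (hρ : Function.Injective ρ) :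
    ∃ A : Subgroup G, A.Normal ∧ (∀ x ∈ A, ∀ y ∈ A, x * y = y * x) ∧
      ∀ H : Subgroup G, (∀ x ∈ H, ∀ y ∈ H, x * y = y * x) →
        (A.subgroupOf H).index ≤ 12 ^ n := by
  haveI := Fintype.ofFinite G
  obtain ⟨W, σ, e, hσ, -⟩ := exists_unitary_model n ρ hρ
  have h := exists_normal_commutative_index_bound (E := W) σ hσ
  rwa [← e.finrank_eq, Module.finrank_fin_fun] at h

end Cfsg.Agent.Blichfeldt
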