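/-
* `exists_commutative_index_dvd_factorial` : a finite p-group with a faithful complex
  representation of degree `n` has an abelian subgroup of index dividing `n!`.
* `commute_of_primes_gt` : a finite group with all prime divisors `> n` and a faithful
  character of degree `n` is abelian.
-/
import Cfsg.Agent.Lib.Blichfeldt.Basic
import Cfsg.Agent.Lib.PGroup.NormalAbelian
import Cfsg.Agent.Lib.Char.Linear
import Cfsg.Agent.Lib.Char.Integral

set_option autoImplicit false

namespace Cfsg.Agent.Blichfeldt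

open scoped ComplexConjugate InnerProductSpace

theorem card_eigen_functions_le {G : Type*} [Group G] {E : Type*} [NormedAddCommGroup E]
    [InnerProductSpace ℂ E] [FiniteDimensional ℂ E] (σ : G →* (E ≃ₗᵢ[ℂ] E)) (A : Subgroup G) :
    Finite {l : A → ℂ // ∃ v : E, v ≠ 0 ∧ ∀ a : A, σ (a : G) v = l a • v} ∧
    Nat.card {l : A → ℂ // ∃ v : E, v ≠ 0 ∧ ∀ a : A, σ (a : G) v = l a • v}
      ≤ Module.finrank ℂ E := by
  classical
  set Λ := {l : A → ℂ // ∃ v : E, v ≠ 0 ∧ ∀ a : A, σ (a : G) v = l a • v}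
  choose v hv0 hv using fun l : Λ => l.2
  have hli : LinearIndependent ℂ v := by
    refine linearIndependent_of_ne_zero_of_inner_eq_zero hv0 fun l m hlm => ?_
    obtain ⟨a, ha⟩ := Function.ne_iff.1 (fun h => hlm (Subtype.ext h))
    exact eigen_orth σ (hv0 l) ha (hv l a) (hv m a)
  haveI : Finite Λ := hli.finite
  haveI := Fintype.ofFinite Λ
  refine ⟨inferInstance, ?_⟩
  rw [Nat.card_eq_fintype_card]
  exact hli.fintype_card_le_finrank

theorem exists_commutative_index_dvd_factorial_of_isometries {G : Type*} [Group G] [Finite G] {p : ℕ}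
    [Fact p.Prime] (hG : IsPGroup p G) {W : Type*} [NormedAddCommGroup W] [InnerProductSpace ℂ W]
    [FiniteDimensional ℂ W] (σ : G →* (W ≃ₗᵢ[ℂ] W)) (hσ : Function.Injective σ) (n : ℕ)
    (hn : Module.finrank ℂ W ≤ n) :
    ∃ B : Subgroup G, (∀ x ∈ B, ∀ y ∈ B, x * y = y * x) ∧ B.index ∣ n.factorial := by
  classical
  haveI := Fintype.ofFinite G
  obtain ⟨A, -, hA⟩ := Finite.exists_le_maximal
    (p := fun B : Subgroup G => B.Normal ∧ ∀ x ∈ B, ∀ y ∈ B, x * y = y * x) (a := ⊥)
    ⟨inferInstance, by simp⟩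
  obtain ⟨⟨hAn, hAc⟩, hAmax⟩ := hA
  have hC := PGroup.centralizer_eq_of_maximal_normal_abelian hG hAc
    (fun B hB hBc hle => le_antisymm (hAmax ⟨hB, hBc⟩ hle) hle)
  refine ⟨A, hAc, ?_⟩
  obtain ⟨hfin, hcard⟩ := card_eigen_functions_le (E := W) σ A
  replace hcard := hcard.trans hn
  set Λ := {l : A → ℂ // ∃ v : W, v ≠ 0 ∧ ∀ a : A, σ (a : G) v = l a • v}
  let c : G → A → A := fun g a => ⟨g⁻¹ * a * g, by simpa using hAn.conj_mem _ a.2 g⁻¹⟩
  letI : MulAction G Λ :=
    { smul := fun g l => ⟨fun a => l.1 (c g a), by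
        obtain ⟨v, hv0, hv⟩ := l.2
        refine ⟨σ g v, fun h => hv0 ((σ g).map_eq_zero_iff.1 h), fun a => ?_⟩
        have h1 := hv (c g a)
        rw [← map_smul, ← h1, ← apply_mul, ← apply_mul]
        congr 2
        simp only [c]; group⟩
      mul_smul := fun g h l => by
        apply Subtype.ext
        funext a
        show l.1 (c (g * h) a) = l.1 (c h (c g a))
        refine congrArg l.1 (Subtype.ext ?_)
        simp only [c]; group
      one_smul := fun l => by
        apply Subtype.ext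
        funext a
        show l.1 (c 1 a) = l.1 a
        refine congrArg l.1 (Subtype.ext ?_)
        simp [c] }
  have hker : (MulAction.toPermHom G Λ).ker ≤ A := by
    intro g hg
    rw [← hC, Subgroup.mem_centralizer_iff]
    intro a ha
    obtain ⟨k, L, -, hmul, hnorm, hvec, hL⟩ :=
      exists_eigen_functions (E := W) σ A hAc ⊤ (fun _ _ _ _ => Submodule.mem_top)
    have hfix : ∀ i, L i (g⁻¹ * a * g) = L i a := by
      intro i
      obtain ⟨v, hv0, hv⟩ := hvec i
      have h1 : g • (⟨fun b : A => L i b, v, hv0, fun b => hv b b.2⟩ : Λ)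
          = ⟨fun b : A => L i b, v, hv0, fun b => hv b b.2⟩ := by
        have := MonoidHom.mem_ker.1 hg
        exact congrArg (fun π : Equiv.Perm Λ => π _) this
      exact congrFun (congrArg Subtype.val h1) ⟨a, ha⟩
    have hga : g⁻¹ * a * g ∈ A := by simpa using hAn.conj_mem _ ha g⁻¹
    have hai : a⁻¹ ∈ A := A.inv_mem ha
    have h1 : σ (a⁻¹ * (g⁻¹ * a * g)) = 1 := by
      refine LinearIsometryEquiv.ext fun v => ?_
      have hb := hL _ (A.mul_mem hai hga) 1 0 le_rfl (fun i => by
        rw [hmul i _ hai _ hga, hfix, ← hmul i _ hai _ ha, inv_mul_cancel]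
        obtain ⟨v, hv0, hv⟩ := hvec i
        have h2 := hv 1 A.one_mem
        rw [apply_one] at h2
        have h3 : ((1 : ℂ) - L i 1) • v = 0 := by rw [sub_smul, one_smul, ← h2, sub_self]
        rcases smul_eq_zero.1 h3 with h4 | h4
        · rw [← sub_eq_zero.1 h4]; simp
        · exact absurd h4 hv0) v Submodule.mem_top
      rw [zero_mul, norm_le_zero_iff, sub_eq_zero, one_smul] at hb
      exact hb
    have h2 : a⁻¹ * (g⁻¹ * a * g) = 1 := hσ (h1.trans (map_one σ).symm)
    calc a * g = g * (g⁻¹ * a * g) := by group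
      _ = g * a := by rw [← inv_mul_eq_one.1 h2]
  refine (Subgroup.index_dvd_of_le hker).trans ?_
  rw [Subgroup.index_ker]
  refine (Subgroup.card_subgroup_dvd_card _).trans ?_
  rw [Nat.card_perm]
  exact Nat.factorial_dvd_factorial hcard

theorem exists_commutative_index_dvd_factorial {G : Type*} [Group G] [Finite G] {p : ℕ}
    [Fact p.Prime] (hG : IsPGroup p G) (n : ℕ) (ρ : Representation ℂ G (Fin n → ℂ))
    (hρ : Function.Injective ρ) :
    ∃ B : Subgroup G, (∀ x ∈ B, ∀ y ∈ B, x * y = y * x) ∧ B.index ∣ n.factorial := by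
  haveI := Fintype.ofFinite G
  obtain ⟨W, σ, e, hσ, -⟩ := exists_unitary_model n ρ hρ
  exact exists_commutative_index_dvd_factorial_of_isometries hG (W := W) σ hσ n
    (by rw [← e.finrank_eq, Module.finrank_fin_fun])

open Cfsg in
/-- A finite group all of whose primes exceed the degree of a faithful character is abelian. -/
theorem commute_of_primes_gt {G : Type*} [Group G] [Finite G] {χ : G → ℂ}
    (hχ : IsCharacter G χ) (hfaith : ∀ g : G, χ g = χ 1 → g = 1) {n : ℕ} (hn : χ 1 = (n : ℂ))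
    (hp : ∀ q : ℕ, q.Prime → q ∣ Nat.card G → n < q) (x y : G) : x * y = y * x := by
  haveI := Fintype.ofFinite G
  haveI := Fintype.ofFinite (IrrCharacter G)
  obtain ⟨m, hm, -⟩ := Char.IsCharacter.decompose hχ
  choose d hd using fun φ : IrrCharacter G => Char.IsIrrCharacter.exists_degree φ.2
  have hlin : ∀ φ : IrrCharacter G, m φ ≠ 0 →
      (φ : G → ℂ) (x * y * x⁻¹ * y⁻¹) = (φ : G → ℂ) 1 := by
    intro φ hmφ
    obtain ⟨hd0, hd'⟩ := hd φ
    have hsum : n = ∑ ψ : IrrCharacter G, m ψ * d ψ := by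
      have h1 := congrFun hm 1
      rw [hn, Finset.sum_apply] at h1
      have h2 : (n : ℂ) = ((∑ ψ : IrrCharacter G, m ψ * d ψ : ℕ) : ℂ) := by
        rw [h1]; push_cast
        exact Finset.sum_congr rfl fun ψ _ => by rw [Pi.smul_apply, (hd ψ).2, smul_eq_mul]
      exact_mod_cast h2
    have hle : d φ ≤ n := by
      rw [hsum]
      refine le_trans ?_ (Finset.single_le_sum (f := fun ψ : IrrCharacter G => m ψ * d ψ)
        (fun i _ => Nat.zero_le _) (Finset.mem_univ φ))
      exact Nat.le_mul_of_pos_left _ (Nat.pos_of_ne_zero hmφ)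
    have h1d : d φ = 1 := by
      by_contra hne
      obtain ⟨d', -, hd'', hdd⟩ := Char.IsIrrCharacter.degree_dvd_card φ.2
      have hdd' : d φ = d' := by
        have := hd'.symm.trans hd''
        exact_mod_cast this
      obtain ⟨q, hq, hqd⟩ := Nat.exists_prime_and_dvd hne
      have h2 := hp q hq (hqd.trans (hdd' ▸ hdd))
      have h3 := Nat.le_of_dvd hd0 hqd
      omega
    obtain ⟨l, hl⟩ := Char.exists_hom_of_degree_one (Char.IsIrrCharacter.isCharacter φ.2)
      (by rw [hd', h1d, Nat.cast_one])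
    rw [← hl]
    simp only [map_mul, map_one]
    have hx : l x * l x⁻¹ = 1 := by rw [← map_mul, mul_inv_cancel, map_one]
    have hy : l y * l y⁻¹ = 1 := by rw [← map_mul, mul_inv_cancel, map_one]
    calc l x * l y * l x⁻¹ * l y⁻¹ = (l x * l x⁻¹) * (l y * l y⁻¹) := by ring
      _ = 1 := by rw [hx, hy, one_mul]
  have h1 : χ (x * y * x⁻¹ * y⁻¹) = χ 1 := by
    rw [hm, Finset.sum_apply, Finset.sum_apply]
    refine Finset.sum_congr rfl fun φ _ => ?_
    by_cases hmφ : m φ = 0
    · simp [hmφ]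
    · simp only [Pi.smul_apply, hlin φ hmφ]
  exact commutatorElement_eq_one_iff_commute.1 (hfaith _ h1)

end Cfsg.Agent.Blichfeldt
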