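/-
Blichfeldt: if `G` has a faithful character of degree `n`, then for every bound `N ≥ n` the primes
`> N + 1` have an abelian Hall subgroup (`exists_abelian_hall`).
-/
import Cfsg.Agent.Lib.Blichfeldt.Monomial
import Cfsg.Agent.Lib.GaloisPow.Twist
import Cfsg.Agent.Lib.CharApp.Schur
import Cfsg.Agent.Lib.Transfer.Residual

set_option autoImplicit false

namespace Cfsg.Agent.Blichfeldt

open Cfsg

universe u

/-- A family of `N`-th roots of unity with the same power sums takes the same values. -/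
theorem exists_eq_of_power_sums {ι : Type*} [Fintype ι] {N : ℕ} (hN : 0 < N) (a b : ι → ℂ)
    (ha : ∀ i, a i ^ N = 1) (hb : ∀ i, b i ^ N = 1)
    (h : ∀ k : ℕ, ∑ i, a i ^ k = ∑ i, b i ^ k) (i : ι) : ∃ j, b j = a i := by
  classical
  have hgeom : ∀ z : ℂ, z ^ N = 1 → ∑ k ∈ Finset.range N, z ^ k = if z = 1 then (N : ℂ) else 0 := by
    intro z hz
    by_cases h1 : z = 1
    · simp [h1]
    · rw [if_neg h1, geom_sum_eq h1, hz, sub_self, zero_div]
  have ha0 : a i ≠ 0 := fun h0 => by
    have := ha i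
    rw [h0, zero_pow hN.ne'] at this
    exact zero_ne_one this
  have hcount : ∀ f : ι → ℂ, (∀ j, f j ^ N = 1) →
      ∑ k ∈ Finset.range N, ((a i)⁻¹) ^ k * ∑ j, f j ^ k
        = (N : ℂ) * ((Finset.univ.filter fun j => f j = a i).card : ℂ) := by
    intro f hf
    simp_rw [Finset.mul_sum, ← mul_pow]
    rw [Finset.sum_comm]
    rw [Finset.sum_congr rfl fun j _ => hgeom ((a i)⁻¹ * f j)
      (by rw [mul_pow, inv_pow, ha, hf, inv_one, one_mul])]
    rw [← Finset.sum_filter, Finset.sum_const, nsmul_eq_mul, mul_comm]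
    congr 2
    congr 1
    ext j
    simp [inv_mul_eq_one₀ ha0, eq_comm]
  have e := hcount a ha
  simp_rw [h] at e
  rw [hcount b hb] at e
  have e2 : (Finset.univ.filter fun j => b j = a i).card
      = (Finset.univ.filter fun j => a j = a i).card := by
    have := mul_left_cancel₀ (Nat.cast_ne_zero.2 hN.ne') e
    exact_mod_cast this
  have hpos : 0 < (Finset.univ.filter fun j => b j = a i).card := by
    rw [e2]; exact Finset.card_pos.2 ⟨i, by simp⟩
  obtain ⟨j, hj⟩ := Finset.card_pos.1 hpos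
  exact ⟨j, (Finset.mem_filter.1 hj).2⟩

theorem pow_eq_of_root {z : ℂ} {m a b : ℕ} (hz : z ^ m = 1) (h : a ≡ b [MOD m]) : z ^ a = z ^ b := by
  rw [← Nat.mod_add_div a m, ← Nat.mod_add_div b m, pow_add, pow_add, pow_mul, pow_mul, hz,
    one_pow, one_pow, h]

variable {G : Type*} [Group G] [Finite G]

/-- A residue exponent for the Galois twist: arbitrary at `p`, trivial at the other primes. -/
theorem exists_twist_exponent {p : ℕ} (hp : p.Prime) (N : ℕ) (hN : N ≠ 0) {s : ℕ} (hs : ¬ p ∣ s) :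
    ∃ k : ℕ, k.Coprime N ∧ k ≡ s [MOD p ^ N.factorization p] ∧
      k ≡ 1 [MOD N / p ^ N.factorization p] := by
  have hco : (p ^ N.factorization p).Coprime (N / p ^ N.factorization p) :=
    (Nat.coprime_ordCompl hp hN).pow_left _
  obtain ⟨k, hk1, hk2⟩ := Nat.chineseRemainder hco s 1
  refine ⟨k, ?_, hk1, hk2⟩
  rw [← Nat.ordProj_mul_ordCompl_eq_self N p]
  refine Nat.Coprime.mul_right ?_ ?_
  · rcases Nat.eq_zero_or_pos (N.factorization p) with h0 | h0
    · rw [h0, pow_zero]; exact Nat.coprime_one_right k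
    · refine Nat.Coprime.pow_right _ ((hp.coprime_iff_not_dvd.2 fun hd => hs ?_).symm)
      exact ((hk1.of_dvd (dvd_pow_self p h0.ne')).dvd_iff (dvd_refl p)).1 hd
  · exact Nat.Coprime.symm (by
      rw [Nat.Coprime, Nat.gcd_comm, hk2.gcd_eq]; exact Nat.gcd_one_left _)

theorem pow_eq_of_modEq {x : G} {m a b : ℕ} (hx : orderOf x ∣ m) (h : a ≡ b [MOD m]) :
    x ^ a = x ^ b := pow_eq_pow_iff_modEq.2 (h.of_dvd hx)

theorem orderOf_dvd_ordProj {p : ℕ} (hp : p.Prime) {x : G} {a : ℕ} (hx : orderOf x = p ^ a) :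
    orderOf x ∣ p ^ (Nat.card G).factorization p := by
  rw [hx]
  exact pow_dvd_pow _ ((hp.pow_dvd_iff_le_factorization Nat.card_pos.ne').1
    (hx ▸ orderOf_dvd_natCard x))

theorem orderOf_dvd_ordCompl {p : ℕ} (hp : p.Prime) {y : G} (hy : (orderOf y).Coprime p) :
    orderOf y ∣ Nat.card G / p ^ (Nat.card G).factorization p := by
  refine Nat.Coprime.dvd_of_dvd_mul_left (hy.pow_right ((Nat.card G).factorization p)) ?_
  rw [Nat.ordProj_mul_ordCompl_eq_self]
  exact orderOf_dvd_natCard y

/-- A linear character extending the scalar character of the central `p`-elements. -/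
theorem exists_linear_extension {p : ℕ} (hp : p.Prime) {n : ℕ} (ρ : Representation ℂ G (Fin n → ℂ))
    [ρ.IsIrreducible] (hpn : ¬ p ∣ n) :
    ∃ μ : G →* ℂ, (∀ y : G, (orderOf y).Coprime p → μ y = 1) ∧
      ∀ x ∈ Subgroup.center G, (∃ a, orderOf x = p ^ a) → ρ x = μ x • (1 : Module.End ℂ (Fin n → ℂ)) := by
  have hN := (Nat.card_pos (α := G)).ne'
  set P := p ^ (Nat.card G).factorization p with hP
  set m := Nat.card G / P with hm
  have hco : P.Coprime m := (Nat.coprime_ordCompl hp hN).pow_left _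
  have hnP : n.Coprime P := Nat.Coprime.pow_right _ ((hp.coprime_iff_not_dvd.2 hpn).symm)
  obtain ⟨e0, he0⟩ : ∃ e0, n * e0 ≡ 1 [MOD P] := by
    rcases eq_or_ne P 1 with h1 | h1
    · exact ⟨0, by rw [h1]; exact Nat.modEq_one⟩
    · obtain ⟨w, -, hw⟩ := Nat.exists_mul_mod_eq_one_of_coprime hnP
        (lt_of_le_of_ne (Nat.one_le_iff_ne_zero.2 (pow_ne_zero _ hp.ne_zero)) (Ne.symm h1))
      refine ⟨w, ?_⟩
      rw [Nat.ModEq, hw, Nat.one_mod_eq_one.2 h1]
  obtain ⟨e, he1, he2⟩ := Nat.chineseRemainder hco e0 0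
  let d : G →* ℂ := LinearMap.det.comp ρ
  refine ⟨d ^ e, fun y hy => ?_, fun x hx ⟨a, ha⟩ => ?_⟩
  · show d y ^ e = 1
    rw [← map_pow, pow_eq_of_modEq (orderOf_dvd_ordCompl hp hy) he2, pow_zero, map_one]
  · obtain ⟨c, hc⟩ := CharApp.exists_scalar_of_mem_center ρ hx
    have hd : d x = c ^ n := by
      show LinearMap.det (ρ x) = c ^ n
      rw [hc, LinearMap.det_smul, Module.finrank_fin_fun, map_one, mul_one]
    have hx1 : x ^ (n * e) = x := by
      rw [pow_eq_of_modEq (orderOf_dvd_ordProj hp ha) ((he1.mul_left n).trans he0), pow_one]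
    have hpow : ∀ k : ℕ, ρ (x ^ k) = c ^ k • (1 : Module.End ℂ (Fin n → ℂ)) := fun k => by
      rw [map_pow, hc, smul_pow, one_pow]
    show ρ x = (d x ^ e) • _
    rw [hd, ← pow_mul, ← hpow, hx1]

/-- If all Galois twists at `p` fix `χ`, every `p`-element is central. -/
theorem mem_center_of_galois_fixed {p : ℕ} (hp : p.Prime) {n : ℕ}
    (ρ : Representation ℂ G (Fin n → ℂ)) (hρ : Function.Injective ρ) (hnp : n + 1 < p)
    (μ : G →* ℂ)
    (hfix : ∀ s k t : ℕ, ¬ p ∣ s → k.Coprime (Nat.card G) →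
      k ≡ s [MOD p ^ (Nat.card G).factorization p] →
      k ≡ 1 [MOD Nat.card G / p ^ (Nat.card G).factorization p] →
      k + t ≡ 1 [MOD Nat.card G] → ∀ g, ρ.character (g ^ k) * μ (g ^ t) = ρ.character g)
    {x : G} {a : ℕ} (hx : orderOf x = p ^ a) : x ∈ Subgroup.center G := by
  obtain ⟨b, ν, hν, hroot⟩ := Char.exists_eigenbasis ρ x
  obtain ⟨M, hM⟩ : ∃ M, M = orderOf x := ⟨_, rfl⟩
  have hM0 : 0 < M := hM ▸ orderOf_pos x
  have hω : μ x ^ M = 1 := by rw [← map_pow, hM, pow_orderOf_eq_one, map_one]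
  have hω0 : μ x ≠ 0 := fun h0 => by
    rw [h0, zero_pow hM0.ne'] at hω; exact zero_ne_one hω
  have hscalar : ∀ i, ν i = μ x := by
    intro i
    by_contra hne
    set α : Fin (Module.finrank ℂ (Fin n → ℂ)) → ℂ := fun l => ν l * (μ x)⁻¹ with hα
    have hαM : ∀ l, α l ^ M = 1 := fun l => by
      rw [hα]; simp only [mul_pow, inv_pow, hω, inv_one, mul_one]
      rw [hM]; exact hroot l
    have hαi : α i ≠ 1 := fun h1 => hne (mul_inv_eq_one₀ hω0 |>.1 h1)
    have hclosed : ∀ s : ℕ, ¬ p ∣ s → ∃ l, α l = α i ^ s := by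
      intro s hs
      obtain ⟨k, hk, hk1, hk2⟩ := exists_twist_exponent hp _ (Nat.card_pos (α := G)).ne' hs
      refine exists_eq_of_power_sums hM0 (fun l => α l ^ s) α
        (fun l => by rw [← pow_mul, mul_comm, pow_mul, hαM, one_pow]) hαM (fun j => ?_) i
      have hsum : ∀ m : ℕ, ∑ l, α l ^ m = ρ.character (x ^ m) * ((μ x)⁻¹) ^ m := fun m => by
        rw [Char.character_pow ρ x b ν hν m, Finset.sum_mul]
        exact Finset.sum_congr rfl fun l _ => mul_pow _ _ _
      have hk1' : k ≡ s [MOD M] := hk1.of_dvd (hM ▸ orderOf_dvd_ordProj hp hx)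
      have hpw : ∀ l, (α l ^ s) ^ j = α l ^ (j * k) := fun l => by
        rw [← pow_mul]
        refine pow_eq_of_root (hαM l) ?_
        exact (hk1'.symm.mul_right j).trans (by rw [mul_comm])
      simp_rw [hpw]
      obtain ⟨t, ht⟩ : ∃ t, k + t ≡ 1 [MOD Nat.card G] := by
        refine ⟨1 + (Nat.card G - 1) * k, ?_⟩
        have h1 : k + (1 + (Nat.card G - 1) * k) = 1 + Nat.card G * k := by
          obtain ⟨g0, hg0⟩ : ∃ g0, Nat.card G = g0 + 1 :=
            ⟨Nat.card G - 1, (Nat.succ_pred_eq_of_pos Nat.card_pos).symm⟩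
          rw [hg0, Nat.add_sub_cancel]; ring
        rw [h1]
        exact Nat.modEq_of_dvd (by simp)
      have hf := hfix s k t hs hk hk1 hk2 ht (x ^ j)
      rw [← pow_mul, ← pow_mul, map_pow] at hf
      rw [hsum, hsum, ← hf, mul_assoc]
      congr 1
      have h2 : μ x ^ (j * k) * μ x ^ (j * t) = μ x ^ j := by
        rw [← pow_add, ← mul_add]
        refine pow_eq_of_root hω ?_
        have h3 := (ht.mul_left j).of_dvd (hM ▸ orderOf_dvd_natCard x)
        rwa [mul_one] at h3
      rw [inv_pow, inv_pow, ← h2, mul_inv, mul_left_comm, mul_inv_cancel₀ (pow_ne_zero _ hω0),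
        mul_one]
    choose l hl using fun s : Fin (p - 1) => hclosed (s + 1)
      (fun hd => by have := Nat.le_of_dvd (by omega) hd; omega)
    have hinj : Function.Injective l := by
      intro s s' hss
      have h1 : α i ^ ((s : ℕ) + 1) = α i ^ ((s' : ℕ) + 1) := by rw [← hl, ← hl, hss]
      obtain ⟨c, -, hc⟩ := (Nat.dvd_prime_pow hp).1
        (show orderOf (α i) ∣ p ^ a from hx ▸ hM ▸ orderOf_dvd_of_pow_eq_one (hαM i))
      have hc0 : c ≠ 0 := fun h0 => by
        rw [h0, pow_zero, orderOf_eq_one_iff] at hc; exact hαi hc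
      have hα0 : α i ≠ 0 := fun h0 => by
        have := hαM i; rw [h0, zero_pow hM0.ne'] at this; exact zero_ne_one this
      have h1u : Units.mk0 (α i) hα0 ^ ((s : ℕ) + 1) = Units.mk0 (α i) hα0 ^ ((s' : ℕ) + 1) := by
        ext; push_cast; exact h1
      have hmod := (pow_eq_pow_iff_modEq.1 h1u).of_dvd
        (show p ∣ orderOf (Units.mk0 (α i) hα0) by
          rw [← orderOf_units, Units.val_mk0, hc]; exact dvd_pow_self p hc0)
      have := Nat.ModEq.eq_of_lt_of_lt hmod (by omega) (by omega)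
      exact Fin.ext (by omega)
    have := Fintype.card_le_of_injective l hinj
    rw [Fintype.card_fin, Fintype.card_fin, Module.finrank_fin_fun] at this
    omega
  have hsc : ρ x = μ x • (1 : Module.End ℂ (Fin n → ℂ)) := b.ext fun i => by
    rw [hν i, hscalar i]; rfl
  rw [Subgroup.mem_center_iff]
  intro g
  apply hρ
  rw [map_mul, map_mul, hsc, smul_one_mul, mul_smul_comm, mul_one]

/-- Blichfeldt's argument: there are commuting non-central elements of any two large prime orders. -/
theorem exists_commuting_pair {n : ℕ} (ρ : Representation ℂ G (Fin n → ℂ)) [ρ.IsIrreducible]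
    (hρ : Function.Injective ρ) {p q : ℕ} (hp : p.Prime) (hq : q.Prime) (hpq : p ≠ q)
    (hnp : n + 1 < p) (hnq : n + 1 < q)
    (hxp : ∃ x : G, (∃ a, orderOf x = p ^ a) ∧ x ∉ Subgroup.center G)
    (hxq : ∃ y : G, (∃ a, orderOf y = q ^ a) ∧ y ∉ Subgroup.center G) :
    ∃ x y : G, (∃ a, orderOf x = p ^ a) ∧ (∃ a, orderOf y = q ^ a) ∧ x ∉ Subgroup.center G ∧
      y ∉ Subgroup.center G ∧ Commute x y := by
  haveI := Fintype.ofFinite G
  haveI : Fact p.Prime := ⟨hp⟩
  haveI : Fact q.Prime := ⟨hq⟩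
  by_contra hcon
  have hn0 : 0 < n := by
    have := CharApp.finrank_pos_of_irr ρ
    rwa [Module.finrank_fin_fun] at this
  obtain ⟨μ, hμ1, hμ2⟩ := exists_linear_extension hp ρ (Nat.not_dvd_of_pos_of_lt hn0 (by omega))
  obtain ⟨ν, hν1, hν2⟩ := exists_linear_extension hq ρ (Nat.not_dvd_of_pos_of_lt hn0 (by omega))
  -- the twists agree with the character where the relevant part is central
  have hagree : ∀ (r : ℕ) (hr : r.Prime) (l : G →* ℂ),
      (∀ y : G, (orderOf y).Coprime r → l y = 1) →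
      (∀ x ∈ Subgroup.center G, (∃ a, orderOf x = r ^ a) → ρ x = l x • (1 : Module.End ℂ (Fin n → ℂ))) →
      ∀ k t : ℕ, k ≡ 1 [MOD Nat.card G / r ^ (Nat.card G).factorization r] →
      k + t ≡ 1 [MOD Nat.card G] → ∀ x y : G, x ∈ Subgroup.center G → (∃ a, orderOf x = r ^ a) →
      (orderOf y).Coprime r → ρ.character ((x * y) ^ k) * l ((x * y) ^ t) = ρ.character (x * y) := by
    intro r hr l h1 h2 k t hk ht x y hx hxo hyo
    have hc : Commute x y := (Subgroup.mem_center_iff.1 hx y).symm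
    have hchar : ∀ m : ℕ, ρ.character (x ^ m * y) = l x ^ m * ρ.character y := fun m => by
      show LinearMap.trace ℂ _ (ρ (x ^ m * y)) = _
      rw [map_mul, map_pow, h2 x hx hxo, smul_pow, one_pow, smul_one_mul, map_smul]
      rfl
    have hyk : y ^ k = y := by
      rw [pow_eq_of_modEq (orderOf_dvd_ordCompl hr hyo) hk, pow_one]
    have hlx : l x ^ k * l x ^ t = l x := by
      rw [← pow_add, ← map_pow, pow_eq_of_modEq (orderOf_dvd_natCard x) ht, pow_one]
    have e1 := hchar k
    have e2 := hchar 1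
    rw [pow_one, pow_one] at e2
    rw [hc.mul_pow, hc.mul_pow, hyk, e1, map_mul, map_pow, map_pow, h1 y hyo, one_pow, mul_one,
      e2]
    linear_combination ρ.character y * hlx
  have hdich : ∀ s k t s' k' t' : ℕ, k.Coprime (Nat.card G) → k'.Coprime (Nat.card G) →
      k ≡ 1 [MOD Nat.card G / p ^ (Nat.card G).factorization p] →
      k + t ≡ 1 [MOD Nat.card G] →
      k' ≡ 1 [MOD Nat.card G / q ^ (Nat.card G).factorization q] →
      k' + t' ≡ 1 [MOD Nat.card G] → k ≡ s [MOD 1] → k' ≡ s' [MOD 1] →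
      (∀ g, ρ.character (g ^ k) * μ (g ^ t) = ρ.character g) ∨
      (∀ g, ρ.character (g ^ k') * ν (g ^ t') = ρ.character g) := by
    intro s k t s' k' t' hk hk' h1 h2 h1' h2' _ _
    obtain ⟨φ, hφdef⟩ : ∃ φ : G → ℂ, φ = fun g => ρ.character (g ^ k) * μ (g ^ t) := ⟨_, rfl⟩
    obtain ⟨ψ, hψdef⟩ : ∃ ψ : G → ℂ, ψ = fun g => ρ.character (g ^ k') * ν (g ^ t') := ⟨_, rfl⟩
    have hirr := Char.isIrrCharacter_character ρ
    have hφ : IsIrrCharacter G φ := by
      rw [hφdef]
      simp only [map_pow]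
      exact Char.IsIrrCharacter.mul_linear (GaloisPow.isIrrCharacter_comp_pow hk hirr) (μ ^ t)
    have hψ : IsIrrCharacter G ψ := by
      rw [hψdef]
      simp only [map_pow]
      exact Char.IsIrrCharacter.mul_linear (GaloisPow.isIrrCharacter_comp_pow hk' hirr) (ν ^ t')
    by_contra hne
    rw [not_or] at hne
    have hφne : φ ≠ ρ.character := fun h => hne.1 fun g => by
      have := congrFun h g; rw [hφdef] at this; exact this
    have hψne : ψ ≠ ρ.character := fun h => hne.2 fun g => by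
      have := congrFun h g; rw [hψdef] at this; exact this
    have hzero : classInner (φ - ρ.character) (ψ - ρ.character) = 0 := by
      rw [classInner, Finset.sum_eq_zero, mul_zero]
      intro g _
      obtain ⟨x, y, hxy, hxg, hyg, hxo, hyo⟩ := Transfer.exists_pPart_mul (p := p) g
      obtain ⟨x', y', hxy', hxg', hyg', hxo', hyo'⟩ := Transfer.exists_pPart_mul (p := q) g
      have hcx : Commute x x' := by
        obtain ⟨i, rfl⟩ := hxg; obtain ⟨j, rfl⟩ := hxg'
        exact Commute.zpow_zpow_self g i j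
      by_cases hx : x ∈ Subgroup.center G
      · have : φ g = ρ.character g := by
          rw [hφdef, hxy]; exact hagree p hp μ hμ1 hμ2 k t h1 h2 x y hx hxo hyo
        rw [Pi.sub_apply, this, sub_self, zero_mul]
      · have hx' : x' ∈ Subgroup.center G := by
          by_contra hx'
          exact hcon ⟨x, x', hxo, hxo', hx, hx', hcx⟩
        have : ψ g = ρ.character g := by
          rw [hψdef, hxy']; exact hagree q hq ν hν1 hν2 k' t' h1' h2' x' y' hx' hxo' hyo'
        rw [Pi.sub_apply, Pi.sub_apply, this, sub_self, map_zero, mul_zero]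
    rw [Char.classInner_sub_left, Char.classInner_sub_right, Char.classInner_sub_right,
      Char.classInner_irr_of_ne hφ hirr hφne, Char.classInner_irr_of_ne hirr hψ hψne.symm,
      Char.classInner_irr_self hirr] at hzero
    by_cases hφψ : φ = ψ
    · rw [← hφψ, Char.classInner_irr_self hφ] at hzero; norm_num at hzero
    · rw [Char.classInner_irr_of_ne hφ hψ hφψ] at hzero; norm_num at hzero
  by_cases hall : ∀ s k t : ℕ, ¬ p ∣ s → k.Coprime (Nat.card G) →
      k ≡ s [MOD p ^ (Nat.card G).factorization p] →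
      k ≡ 1 [MOD Nat.card G / p ^ (Nat.card G).factorization p] →
      k + t ≡ 1 [MOD Nat.card G] → ∀ g, ρ.character (g ^ k) * μ (g ^ t) = ρ.character g
  · obtain ⟨x, ⟨a, hxa⟩, hx⟩ := hxp
    exact hx (mem_center_of_galois_fixed hp ρ hρ hnp μ hall hxa)
  · push Not at hall
    obtain ⟨s, k, t, hs, hk, hk1, hk2, ht, g, hg⟩ := hall
    obtain ⟨y, ⟨a, hya⟩, hy⟩ := hxq
    refine hy (mem_center_of_galois_fixed hq ρ hρ hnq ν ?_ hya)
    intro s' k' t' _ hk' _ hk2' ht'
    refine (hdich s k t s' k' t' hk hk' hk2 ht hk2' ht' Nat.modEq_one Nat.modEq_one).resolve_left ?_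
    exact fun h => hg (h g)

/-- A `q`-element is conjugate into any subgroup of index prime to `q`. -/
theorem exists_conj_mem_of_not_dvd {q : ℕ} (hq : q.Prime) (H : Subgroup G) (h : ¬ q ∣ H.index)
    {y : G} {a : ℕ} (hy : orderOf y = q ^ a) : ∃ c : G, c * y * c⁻¹ ∈ H := by
  haveI : Fact q.Prime := ⟨hq⟩
  have hP : IsPGroup q (Subgroup.zpowers y) :=
    IsPGroup.of_card (n := a) (by rw [Nat.card_zpowers, hy])
  obtain ⟨c, hc⟩ := hP.nonempty_fixed_point_of_prime_not_dvd_card (G ⧸ H)
    (by rwa [← Subgroup.index_eq_card])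
  induction c using QuotientGroup.induction_on with
  | _ c =>
    have h1 : ((y * c : G) : G ⧸ H) = (c : G ⧸ H) :=
      hc ⟨y, Subgroup.mem_zpowers y⟩
    refine ⟨c⁻¹, ?_⟩
    rw [inv_inv, mul_assoc]
    exact QuotientGroup.eq.1 h1.symm

theorem centralizer_index_dvd_of_mem_comm {x : G} (A : Subgroup G)
    (hA : ∀ a ∈ A, ∀ b ∈ A, a * b = b * a) {c : G} (hc : c * x * c⁻¹ ∈ A) :
    (Subgroup.centralizer ({x} : Set G)).index ∣ A.index := by
  have hle : A.map (MulAut.conj c⁻¹).toMonoidHom ≤ Subgroup.centralizer ({x} : Set G) := by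
    rintro _ ⟨a, ha, rfl⟩
    rw [Subgroup.mem_centralizer_singleton_iff]
    simp only [MulEquiv.coe_toMonoidHom, MulAut.conj_apply, inv_inv]
    have h1 : a * (c * x * c⁻¹) = (c * x * c⁻¹) * a := hA _ ha _ hc
    calc c⁻¹ * a * c * x = c⁻¹ * (a * (c * x * c⁻¹)) * c := by group
      _ = c⁻¹ * ((c * x * c⁻¹) * a) * c := by rw [h1]
      _ = x * (c⁻¹ * a * c) := by group
  refine (Subgroup.index_dvd_of_le hle).trans (dvd_of_eq ?_)
  exact Subgroup.index_map_equiv A (MulAut.conj c⁻¹)

theorem restrict_faithful {χ : G → ℂ} (hfaith : ∀ g : G, χ g = χ 1 → g = 1) (H : Subgroup G) :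
    ∀ h : H, χ (h : G) = χ ((1 : H) : G) → h = 1 :=
  fun h hh => Subtype.ext (hfaith h hh)

/-- The Hall property used in the induction. -/
def HasLargeHall (N : ℕ) (G : Type*) [Group G] : Prop :=
  ∃ H : Subgroup G, (∀ q : ℕ, q.Prime → q ∣ Nat.card H → N + 1 < q) ∧
    ∀ q : ℕ, q.Prime → q ∣ H.index → q ≤ N + 1

theorem hasLargeHall_of_subgroup {N : ℕ} (L : Subgroup G)
    (hL : ∀ q : ℕ, q.Prime → q ∣ L.index → q ≤ N + 1) (h : HasLargeHall N L) :
    HasLargeHall N G := by
  obtain ⟨H, h1, h2⟩ := h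
  refine ⟨H.map L.subtype, fun q hq hd => h1 q hq ?_, fun q hq hd => ?_⟩
  · rwa [Subgroup.card_subtype] at hd
  · rw [Subgroup.index_map_subtype] at hd
    rcases (hq.dvd_mul).1 hd with h | h
    · exact h2 q hq h
    · exact hL q hq h

theorem sylow_comm {N n : ℕ} (hnN : n ≤ N) {χ : G → ℂ} (hχ : IsCharacter G χ)
    (hfaith : ∀ g : G, χ g = χ 1 → g = 1) (hn : χ 1 = (n : ℂ)) (H : Subgroup G)
    (hH : ∀ q : ℕ, q.Prime → q ∣ Nat.card H → N + 1 < q) :
    ∀ a ∈ H, ∀ b ∈ H, a * b = b * a := fun a ha b hb =>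
  congrArg Subtype.val (commute_of_primes_gt (Char.IsCharacter.restrict hχ H)
    (restrict_faithful hfaith H) hn
    (fun q hq hd => by have := hH q hq hd; omega) ⟨a, ha⟩ ⟨b, hb⟩)

/-- The irreducible case. -/
theorem hasLargeHall_of_irreducible {N n : ℕ} (hnN : n ≤ N) (ρ : Representation ℂ G (Fin n → ℂ))
    [ρ.IsIrreducible] (hρ : Function.Injective ρ)
    (hsub : ∀ L : Subgroup G, L ≠ ⊤ → HasLargeHall N L) : HasLargeHall N G := by
  have hχ : IsCharacter G ρ.character := Char.isCharacter_character ρ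
  have hn : ρ.character 1 = (n : ℂ) := by rw [Representation.char_one, Module.finrank_fin_fun]
  have hfaith : ∀ g, ρ.character g = ρ.character 1 → g = 1 := fun g hg => hρ (by
    rw [map_one ρ]
    exact (Char.character_eq_finrank_iff ρ g).1 (by rw [hg, Representation.char_one]))
  have hcomm := fun H => sylow_comm hnN hχ hfaith hn H
  by_cases hS : ∃ p : ℕ, p.Prime ∧ N + 1 < p ∧
      ∃ x : G, (∃ a, orderOf x = p ^ a) ∧ x ∉ Subgroup.center G
  · obtain ⟨p, hp, hpN, x, ⟨a, hxa⟩, hx⟩ := hS
    have hCne : Subgroup.centralizer ({x} : Set G) ≠ ⊤ := fun h => hx (by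
      rw [Subgroup.mem_center_iff]
      intro g
      exact Subgroup.mem_centralizer_singleton_iff.1 (h ▸ Subgroup.mem_top g))
    refine hasLargeHall_of_subgroup _ (fun q hq hd => ?_) (hsub _ hCne)
    by_contra hqN
    push Not at hqN
    haveI : Fact q.Prime := ⟨hq⟩
    haveI : Fact p.Prime := ⟨hp⟩
    rcases eq_or_ne q p with rfl | hqp
    · obtain ⟨P, hP⟩ := IsPGroup.exists_le_sylow
        (IsPGroup.of_card (n := a) (by rw [Nat.card_zpowers, hxa]) :
          IsPGroup q (Subgroup.zpowers x))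
      have hPc := hcomm (P : Subgroup G) fun r hr hd' => by
        obtain ⟨k, hk⟩ := IsPGroup.iff_card.1 P.isPGroup'
        rw [hk] at hd'
        rw [(Nat.prime_dvd_prime_iff_eq hr hq).1 (hr.dvd_of_dvd_pow hd')]
        exact hqN
      exact P.not_dvd_index (hd.trans (centralizer_index_dvd_of_mem_comm _ hPc (c := 1)
        (by simpa using hP (Subgroup.mem_zpowers x))))
    · by_cases hQ : ∃ y : G, (∃ b, orderOf y = q ^ b) ∧ y ∉ Subgroup.center G
      · obtain ⟨x', y, ⟨a', hxa'⟩, ⟨b, hyb⟩, hx', hy, hxy⟩ :=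
          exists_commuting_pair ρ hρ hp hq (Ne.symm hqp) (by omega) (by omega)
            ⟨x, ⟨a, hxa⟩, hx⟩ hQ
        have hC'ne : Subgroup.centralizer ({x'} : Set G) ≠ ⊤ := fun h => hx' (by
          rw [Subgroup.mem_center_iff]
          intro g
          exact Subgroup.mem_centralizer_singleton_iff.1 (h ▸ Subgroup.mem_top g))
        obtain ⟨H, hH1, hH2⟩ := hsub _ hC'ne
        have hHq : ¬ q ∣ H.index := fun h => by have := hH2 q hq h; omega
        obtain ⟨c, hc⟩ := exists_conj_mem_of_not_dvd hq H hHq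
          (y := ⟨y, Subgroup.mem_centralizer_singleton_iff.2 hxy.symm.eq⟩) (a := b)
          (by rw [← Subgroup.orderOf_coe]; exact hyb)
        set H' := H.map (Subgroup.centralizer ({x'} : Set G)).subtype with hH'
        have hH'c : ∀ a ∈ H', ∀ b ∈ H', a * b = b * a := hcomm _ fun r hr hd' => by
          rw [hH', Subgroup.card_subtype] at hd'; exact hH1 r hr hd'
        obtain ⟨y', hy'def⟩ : ∃ y' : G, y' = (c : G) * y * (c : G)⁻¹ := ⟨_, rfl⟩
        have hy'H : y' ∈ H' := ⟨_, hc, by simp [hy'def]⟩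
        have hy'b : orderOf y' = q ^ b := by
          rw [hy'def, ← hyb]
          exact MulEquiv.orderOf_eq (MulAut.conj (c : G)) y
        have hy'n : y' ∉ Subgroup.center G := fun h => hy (by
          have h3 := (inferInstance : (Subgroup.center G).Normal).conj_mem _ h (c : G)⁻¹
          rw [hy'def] at h3
          simpa [mul_assoc] using h3)
        obtain ⟨K, hK1, hK2⟩ := hsub (Subgroup.centralizer ({y'} : Set G)) (fun h => hy'n (by
          rw [Subgroup.mem_center_iff]
          intro g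
          exact Subgroup.mem_centralizer_singleton_iff.1 (h ▸ Subgroup.mem_top g)))
        have hcy' : ¬ q ∣ (Subgroup.centralizer ({y'} : Set G)).index := by
          intro hd'
          obtain ⟨Q, hQy⟩ := IsPGroup.exists_le_sylow
            (IsPGroup.of_card (n := b) (by rw [Nat.card_zpowers, hy'b]) :
              IsPGroup q (Subgroup.zpowers y'))
          have hQc := hcomm (Q : Subgroup G) fun r hr hd'' => by
            obtain ⟨k, hk⟩ := IsPGroup.iff_card.1 Q.isPGroup'
            rw [hk] at hd''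
            rw [(Nat.prime_dvd_prime_iff_eq hr hq).1 (hr.dvd_of_dvd_pow hd'')]
            exact hqN
          exact Q.not_dvd_index (hd'.trans (centralizer_index_dvd_of_mem_comm _ hQc (c := 1)
            (by simpa using hQy (Subgroup.mem_zpowers y'))))
        have hcy'p : ¬ p ∣ (Subgroup.centralizer ({y'} : Set G)).index := by
          intro hd'
          have hd'' := hd'.trans (centralizer_index_dvd_of_mem_comm _ hH'c (c := 1)
            (by simpa using hy'H))
          rw [hH', Subgroup.index_map_subtype] at hd''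
          rcases (hp.dvd_mul).1 hd'' with h | h
          · have := hH2 p hp h; omega
          · obtain ⟨P, hP⟩ := IsPGroup.exists_le_sylow
              (IsPGroup.of_card (n := a') (by rw [Nat.card_zpowers, hxa']) :
                IsPGroup p (Subgroup.zpowers x'))
            have hPc := hcomm (P : Subgroup G) fun r hr hr' => by
              obtain ⟨k, hk⟩ := IsPGroup.iff_card.1 P.isPGroup'
              rw [hk] at hr'
              rw [(Nat.prime_dvd_prime_iff_eq hr hp).1 (hr.dvd_of_dvd_pow hr')]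
              exact hpN
            exact P.not_dvd_index (h.trans (centralizer_index_dvd_of_mem_comm _ hPc (c := 1)
              (by simpa using hP (Subgroup.mem_zpowers x'))))
        set K' := K.map (Subgroup.centralizer ({y'} : Set G)).subtype with hK'
        have hK'c : ∀ a ∈ K', ∀ b ∈ K', a * b = b * a := hcomm _ fun r hr hd' => by
          rw [hK', Subgroup.card_subtype] at hd'; exact hK1 r hr hd'
        have hK'p : ¬ p ∣ K'.index := fun h => by
          rw [hK', Subgroup.index_map_subtype] at h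
          rcases (hp.dvd_mul).1 h with h | h
          · have := hK2 p hp h; omega
          · exact hcy'p h
        have hK'q : ¬ q ∣ K'.index := fun h => by
          rw [hK', Subgroup.index_map_subtype] at h
          rcases (hq.dvd_mul).1 h with h | h
          · have := hK2 q hq h; omega
          · exact hcy' h
        obtain ⟨d, hd'⟩ := exists_conj_mem_of_not_dvd hp K' hK'p hxa
        exact hK'q (hd.trans (centralizer_index_dvd_of_mem_comm _ hK'c hd'))
      · push Not at hQ
        obtain ⟨Q⟩ : Nonempty (Sylow q G) := inferInstance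
        refine Q.not_dvd_index (hd.trans (Subgroup.index_dvd_of_le ?_))
        intro g hg
        obtain ⟨k, hk⟩ := Q.isPGroup' ⟨g, hg⟩
        have hgo : ∃ b, orderOf g = q ^ b := by
          obtain ⟨b, -, hb⟩ := (Nat.dvd_prime_pow hq).1
            (orderOf_dvd_of_pow_eq_one (show g ^ q ^ k = 1 from congrArg Subtype.val hk))
          exact ⟨b, hb⟩
        rw [Subgroup.mem_centralizer_singleton_iff]
        exact (Subgroup.mem_center_iff.1 (hQ g hgo) x).symm
  · push Not at hS
    refine ⟨Subgroup.closure {g : G | ∃ q, q.Prime ∧ N + 1 < q ∧ ∃ a, orderOf g = q ^ a}, ?_, ?_⟩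
    · intro r hr hd
      haveI : Fact r.Prime := ⟨hr⟩
      obtain ⟨⟨g, hg⟩, hgo⟩ := exists_prime_orderOf_dvd_card' r hd
      by_contra hrN
      rw [← Subgroup.orderOf_coe] at hgo
      have key : (orderOf g).Coprime r := by
        refine Subgroup.closure_induction (p := fun z _ => z ∈ Subgroup.center G ∧
          (orderOf z).Coprime r) ?_ ?_ ?_ ?_ hg |>.2
        · rintro z ⟨q, hq, hqN, b, hb⟩
          refine ⟨hS q hq hqN z ⟨b, hb⟩, ?_⟩
          rw [hb]
          exact ((Nat.coprime_primes hq hr).2 (by omega)).pow_left _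
        · exact ⟨Subgroup.one_mem _, by rw [orderOf_one]; exact Nat.coprime_one_left r⟩
        · intro u v _ _ hu hv
          refine ⟨Subgroup.mul_mem _ hu.1 hv.1, Nat.Coprime.coprime_dvd_left
            (Commute.orderOf_mul_dvd_mul_orderOf (Subgroup.mem_center_iff.1 hv.1 u))
            (Nat.Coprime.mul_left hu.2 hv.2)⟩
        · intro u _ hu
          exact ⟨Subgroup.inv_mem _ hu.1, by rw [orderOf_inv]; exact hu.2⟩
      rw [show orderOf g = r from hgo] at key
      exact hr.ne_one ((Nat.coprime_self r).1 key)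
    · intro q hq hd
      by_contra hqN
      push Not at hqN
      haveI : Fact q.Prime := ⟨hq⟩
      obtain ⟨Q⟩ : Nonempty (Sylow q G) := inferInstance
      refine Q.not_dvd_index (hd.trans (Subgroup.index_dvd_of_le ?_))
      intro g hg
      obtain ⟨k, hk⟩ := Q.isPGroup' ⟨g, hg⟩
      obtain ⟨b, -, hb⟩ := (Nat.dvd_prime_pow hq).1
        (orderOf_dvd_of_pow_eq_one (show g ^ q ^ k = 1 from congrArg Subtype.val hk))
      exact Subgroup.subset_closure ⟨q, hq, hqN, b, hb⟩

theorem exists_quotient_character (χ : G → ℂ) (hχ : IsCharacter G χ) :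
    ∃ (K : Subgroup G) (_ : K.Normal) (ψ : G ⧸ K → ℂ), IsCharacter (G ⧸ K) ψ ∧ ψ 1 = χ 1 ∧
      (∀ g : G ⧸ K, ψ g = ψ 1 → g = 1) ∧ ∀ g : G, g ∈ K → χ g = χ 1 := by
  obtain ⟨m, ρ, rfl⟩ := hχ
  obtain ⟨K, hKdef⟩ : ∃ K : Subgroup G, K = MonoidHom.ker ρ := ⟨_, rfl⟩
  have hKn : K.Normal := hKdef ▸ MonoidHom.normal_ker ρ
  let τ : Representation ℂ (G ⧸ K) (Fin m → ℂ) :=
    QuotientGroup.lift K ρ (hKdef ▸ le_refl _)
  refine ⟨K, hKn, τ.character, Char.isCharacter_character τ,
    by rw [Representation.char_one, Representation.char_one], fun g hg => ?_, fun g hg => ?_⟩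
  · rw [Representation.char_one] at hg
    have h1 := (Char.character_eq_finrank_iff τ g).1 hg
    induction g using QuotientGroup.induction_on with
    | _ g =>
      rw [QuotientGroup.eq_one_iff]
      subst hKdef
      exact h1
  · subst hKdef
    show LinearMap.trace ℂ _ (ρ g) = LinearMap.trace ℂ _ (ρ 1)
    rw [MonoidHom.mem_ker.1 hg, map_one ρ]

theorem exists_split_or_irr (G : Type*) [Group G] [Finite G] {χ : G → ℂ} (hχ : IsCharacter G χ) :
    χ = 0 ∨ IsIrrCharacter G χ ∨ ∃ φ ψ : G → ℂ, IsCharacter G φ ∧ IsCharacter G ψ ∧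
      φ 1 ≠ 0 ∧ ψ 1 ≠ 0 ∧ χ = φ + ψ := by
  refine Char.isCharacter_induction (P := fun χ => χ = 0 ∨ IsIrrCharacter G χ ∨
    ∃ φ ψ : G → ℂ, IsCharacter G φ ∧ IsCharacter G ψ ∧ φ 1 ≠ 0 ∧ ψ 1 ≠ 0 ∧ χ = φ + ψ)
    (Or.inl rfl) ?_ hχ
  intro φ ψ hφ hψ _
  by_cases h : ψ 1 = 0
  · right; left
    have hψ0 : ψ = 0 := by
      funext g
      have h2 := Char.IsCharacter.norm_le hψ g
      simpa [h] using h2
    rw [hψ0, add_zero]; exact hφ
  · exact Or.inr (Or.inr ⟨φ, ψ, Char.IsIrrCharacter.isCharacter hφ, hψ,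
      Char.IsIrrCharacter.apply_one_ne_zero hφ, h, rfl⟩)

theorem exists_large_hall_aux (N : ℕ) : ∀ (d : ℕ) (G : Type u) [Group G] [Finite G] (χ : G → ℂ),
    IsCharacter G χ → (∀ g : G, χ g = χ 1 → g = 1) → ∀ n : ℕ, χ 1 = (n : ℂ) → n ≤ N →
    Nat.card G + n ≤ d → HasLargeHall N G := by
  intro d
  induction d with
  | zero =>
    intro G _ _ χ _ _ n _ _ hd
    have := Nat.card_pos (α := G); omega
  | succ d ih =>
    intro G _ _ χ hχ hfaith n hn hnN hd
    have hsub : ∀ L : Subgroup G, L ≠ ⊤ → HasLargeHall N L := fun L hL => by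
      refine ih L (fun h : L => χ h) (Char.IsCharacter.restrict hχ L) (restrict_faithful hfaith L) n hn
        hnN ?_
      have h1 : Nat.card L < Nat.card G := lt_of_le_of_ne (Subgroup.card_le_card_group L)
        (fun h => hL (Subgroup.card_eq_iff_eq_top L |>.1 h))
      omega
    rcases exists_split_or_irr G hχ with h0 | hirr | ⟨φ, ψ, hφ, hψ, hφ0, hψ0, hsum⟩
    · refine ⟨⊤, fun q hq hd' => ?_, fun q hq hd' => ?_⟩
      · have : ∀ g : G, g = 1 := fun g => hfaith g (by rw [h0]; rfl)
        haveI : Subsingleton G := ⟨fun a b => (this a).trans (this b).symm⟩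
        rw [Nat.card_of_subsingleton (1 : (⊤ : Subgroup G))] at hd'
        exact absurd (Nat.dvd_one.1 hd') hq.ne_one
      · rw [Subgroup.index_top] at hd'
        exact absurd (Nat.dvd_one.1 hd') hq.ne_one
    · obtain ⟨m, ρ, hρi, rfl⟩ := hirr
      have hm : m = n := by
        rw [Representation.char_one, Module.finrank_fin_fun] at hn
        exact_mod_cast hn
      subst hm
      refine hasLargeHall_of_irreducible hnN ρ (fun a b hab => ?_) hsub
      have h2 : ρ (a⁻¹ * b) = 1 := by
        rw [map_mul, ← hab, ← map_mul, inv_mul_cancel, map_one]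
      exact inv_mul_eq_one.1 (hfaith (a⁻¹ * b) (by
        show LinearMap.trace ℂ _ (ρ (a⁻¹ * b)) = LinearMap.trace ℂ _ (ρ 1)
        rw [h2, map_one ρ]))
    · obtain ⟨n1, hn1⟩ := Char.IsCharacter.exists_degree hφ
      obtain ⟨n2, hn2⟩ := Char.IsCharacter.exists_degree hψ
      have hn12 : n1 + n2 = n := by
        have h1 := congrFun hsum 1
        rw [hn, Pi.add_apply, hn1, hn2] at h1
        exact_mod_cast h1.symm
      have hn1' : n1 ≠ 0 := fun h => hφ0 (by rw [hn1, h, Nat.cast_zero])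
      have hn2' : n2 ≠ 0 := fun h => hψ0 (by rw [hn2, h, Nat.cast_zero])
      obtain ⟨K1, hK1, φ', hφ', hφ1, hφf, hφk⟩ := exists_quotient_character φ hφ
      obtain ⟨K2, hK2, ψ', hψ', hψ1, hψf, hψk⟩ := exists_quotient_character ψ hψ
      haveI := hK1
      haveI := hK2
      have hc1 : Nat.card (G ⧸ K1) ≤ Nat.card G :=
        Nat.card_le_card_of_surjective _ QuotientGroup.mk_surjective
      have hc2 : Nat.card (G ⧸ K2) ≤ Nat.card G :=
        Nat.card_le_card_of_surjective _ QuotientGroup.mk_surjective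
      obtain ⟨H1, hH1a, hH1b⟩ :=
        ih (G ⧸ K1) φ' hφ' hφf n1 (hφ1.trans hn1) (by omega) (by omega)
      obtain ⟨H2, hH2a, hH2b⟩ :=
        ih (G ⧸ K2) ψ' hψ' hψf n2 (hψ1.trans hn2) (by omega) (by omega)
      by_cases h1 : H1.comap (QuotientGroup.mk' K1) = ⊤
      · by_cases h2 : H2.comap (QuotientGroup.mk' K2) = ⊤
        · refine ⟨⊤, fun q hq hd' => ?_, fun q hq hd' => ?_⟩
          · have hinj : Function.Injective
                ((QuotientGroup.mk' K1).prod (QuotientGroup.mk' K2)) := by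
              rw [injective_iff_map_eq_one]
              intro g hg
              have hg1 := congrArg Prod.fst hg
              have hg2 := congrArg Prod.snd hg
              apply hfaith
              rw [hsum, Pi.add_apply, Pi.add_apply,
                hφk g ((QuotientGroup.eq_one_iff g).1 hg1),
                hψk g ((QuotientGroup.eq_one_iff g).1 hg2)]
            rw [Subgroup.card_top] at hd'
            have hd2 := hd'.trans (Subgroup.card_dvd_of_injective _ hinj)
            rw [Nat.card_prod] at hd2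
            have e1 : H1 = ⊤ := Subgroup.comap_injective (QuotientGroup.mk'_surjective K1)
              (h1.trans (Subgroup.comap_top _).symm)
            have e2 : H2 = ⊤ := Subgroup.comap_injective (QuotientGroup.mk'_surjective K2)
              (h2.trans (Subgroup.comap_top _).symm)
            rcases (hq.dvd_mul).1 hd2 with h | h
            · exact hH1a q hq (by rw [e1, Subgroup.card_top]; exact h)
            · exact hH2a q hq (by rw [e2, Subgroup.card_top]; exact h)
          · rw [Subgroup.index_top] at hd'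
            exact absurd (Nat.dvd_one.1 hd') hq.ne_one
        · refine hasLargeHall_of_subgroup _ (fun q hq hd' => hH2b q hq ?_) (hsub _ h2)
          rwa [Subgroup.index_comap_of_surjective _ (QuotientGroup.mk'_surjective K2)] at hd'
      · refine hasLargeHall_of_subgroup _ (fun q hq hd' => hH1b q hq ?_) (hsub _ h1)
        rwa [Subgroup.index_comap_of_surjective _ (QuotientGroup.mk'_surjective K1)] at hd'

theorem exists_abelian_hall {G : Type u} [Group G] [Finite G] {χ : G → ℂ} (hχ : IsCharacter G χ)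
    (hfaith : ∀ g : G, χ g = χ 1 → g = 1) {n N : ℕ} (hn : χ 1 = (n : ℂ)) (hnN : n ≤ N) :
    ∃ H : Subgroup G, (∀ a ∈ H, ∀ b ∈ H, a * b = b * a) ∧
      (∀ q : ℕ, q.Prime → q ∣ Nat.card H → N + 1 < q) ∧
      ∀ q : ℕ, q.Prime → q ∣ H.index → q ≤ N + 1 := by
  obtain ⟨H, h1, h2⟩ := exists_large_hall_aux N (Nat.card G + n) G χ hχ hfaith n hn hnN le_rfl
  exact ⟨H, sylow_comm hnN hχ hfaith hn H h1, h1, h2⟩

end Cfsg.Agent.Blichfeldt
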